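import Cfsg.Agent.Lib.Invol.AbelTwo.ReeTrans.Sylow
import Mathlib.GroupTheory.GroupAction.MultipleTransitivity

/-!
# A group of Ree type acts doubly transitively on the cosets of a Sylow 3-normaliser
-/

set_option autoImplicit false
set_option linter.unusedSectionVars false
set_option linter.style.haveILetI false

namespace Cfsg.Agent.Invol.AbelTwo.ReeTrans

open Subgroup
open scoped _root_.Classical

universe u v

namespace Data

variable {G : Type u} [Group G] [Finite G] {P : Type v} [Group P] (S : Data G P)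
variable {Q : Subgroup G} (hc : Nat.card ↥Q = S.lp.D.q ^ 3) (hQ : IsPGroup 3 ↥Q) (hUQ : S.Um ≤ Q)
  (hT : S.T ≤ normalizer (Q : Set G))
include hc hQ hUQ hT

/-- The Sylow subgroup meets its conjugate by the Weyl element trivially. -/
theorem inter_eq {x : G} (hx : x ∈ Q) (hx' : S.w * x * S.w⁻¹ ∈ Q) : x = 1 := by
  set D := Q ⊓ Q.comap (MulAut.conj S.w).toMonoidHom with hD
  have hDmem : ∀ z, z ∈ D ↔ z ∈ Q ∧ S.w * z * S.w⁻¹ ∈ Q := fun z => Iff.rfl
  have htQ : ∀ z ∈ Q, S.t * z * S.t⁻¹ ∈ Q := fun z hz =>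
    (mem_normalizer_iff.1 (hT (mem_sup_left (mem_zpowers _))) z).1 hz
  have htD : ∀ z ∈ D, S.t * z * S.t⁻¹ ∈ D := by
    intro z hz
    refine (hDmem _).2 ⟨htQ z hz.1, ?_⟩
    convert htQ _ ((hDmem z).1 hz).2 using 1
    calc S.w * (S.t * z * S.t⁻¹) * S.w⁻¹ = (S.w * S.t) * z * (S.w * S.t)⁻¹ := by group
      _ = (S.t * S.w) * z * (S.t * S.w)⁻¹ := by rw [S.tw]
      _ = _ := by group
  have hwD : ∀ z ∈ D, S.w * z * S.w⁻¹ ∈ D := by
    intro z hz
    refine (hDmem _).2 ⟨((hDmem z).1 hz).2, ?_⟩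
    rw [show S.w * (S.w * z * S.w⁻¹) * S.w⁻¹ = (S.w * S.w) * z * (S.w * S.w)⁻¹ by group, S.ww]
    simpa using hz.1
  have hfix : ∀ z ∈ D, z * S.t = S.t * z → z = 1 := by
    intro z hz hzt
    obtain ⟨a, ha, rfl⟩ := S.fix_eq hQ hUQ hz.1 hzt
    have hc2 : S.w * S.ι a * S.w⁻¹ * S.t = S.t * (S.w * S.ι a * S.w⁻¹) := by
      rw [w, ← map_inv, ← map_mul, ← map_mul, S.tc]
    obtain ⟨b, hb, hba⟩ := S.fix_eq hQ hUQ ((hDmem _).1 hz).2 hc2
    rw [w, ← map_inv, ← map_mul, ← map_mul] at hba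
    have hmem : a ∈ S.lp.K.U ⊓ S.lp.K.U.map (MulAut.conj S.lp.K.w).toMonoidHom :=
      ⟨ha, b, hb, by
        show S.lp.K.w * b * S.lp.K.w⁻¹ = a
        rw [S.B.inj hba]
        calc _ = (S.lp.K.w * S.lp.K.w) * a * (S.lp.K.w * S.lp.K.w)⁻¹ := by group
          _ = a := by rw [S.lp.K.w2]; group⟩
    rw [S.lp.K.opp, mem_bot] at hmem
    rw [hmem, map_one]
  have hinv := inverts S.tt htD hfix
  have hw1 : ∀ (s : G), s * s = 1 → s ≠ 1 → S.t * s = s * S.t → ∀ z ∈ D, z * s = s * z → z = 1 := by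
    intro s hs hs1 hts z hz hzs
    by_contra hz1
    obtain ⟨j, hj⟩ := hQ ⟨z, hz.1⟩
    have hj' : z ^ 3 ^ j = 1 := congrArg Subtype.val hj
    obtain ⟨i, -, hi⟩ := (Nat.dvd_prime_pow Nat.prime_three).1 (orderOf_dvd_of_pow_eq_one hj')
    have hi0 : i ≠ 0 := fun e => hz1 (by rw [← orderOf_eq_one_iff, hi, e, pow_zero])
    set d := z ^ 3 ^ (i - 1) with hd
    have hd3 : orderOf d = 3 := by
      rw [hd, orderOf_pow' _ (pow_ne_zero _ (by norm_num)), hi,
        Nat.gcd_eq_right (Nat.pow_dvd_pow 3 (Nat.sub_le _ _)), Nat.pow_div (Nat.sub_le _ _) (by norm_num),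
        show i - (i - 1) = 1 by omega, pow_one]
    exact S.no_three hd3 hs hs1 hts ((Commute.pow_left hzs _).eq) (hinv d (pow_mem hz _))
  have hinvw := inverts S.ww hwD (hw1 S.w S.ww S.w_ne S.tw)
  refine hw1 (S.t * S.w) ?_ ?_ ?_ x ⟨hx, hx'⟩ ?_
  · calc S.t * S.w * (S.t * S.w) = S.t * (S.w * S.t) * S.w := by group
      _ = S.t * S.t * (S.w * S.w) := by rw [← S.tw]; group
      _ = 1 := by rw [S.tt, S.ww, one_mul]
  · intro e
    refine S.B.t_not S.lp.K.w ?_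
    have h := eq_inv_of_mul_eq_one_left e
    rw [S.w_inv] at h
    exact h.symm
  · rw [← mul_assoc, S.tt, one_mul, mul_assoc, ← S.tw, ← mul_assoc, S.tt, one_mul]
  · have hxD : x ∈ D := ⟨hx, hx'⟩
    have h1 : S.t * S.w * x * (S.t * S.w)⁻¹ = x := by
      rw [show S.t * S.w * x * (S.t * S.w)⁻¹ = S.t * (S.w * x * S.w⁻¹) * S.t⁻¹ by group, hinvw x hxD,
        hinv _ (inv_mem hxD), inv_inv]
    exact (mul_inv_eq_iff_eq_mul.1 h1).symm

/-- A 3-element normalising the Sylow subgroup lies in it. -/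
theorem three_mem {x : G} {j : ℕ} (hj : x ^ 3 ^ j = 1) (hx : x ∈ normalizer (Q : Set G)) : x ∈ Q := by
  haveI : Fact (Nat.Prime 3) := ⟨Nat.prime_three⟩
  obtain ⟨i, -, hi⟩ := (Nat.dvd_prime_pow Nat.prime_three).1 (orderOf_dvd_of_pow_eq_one hj)
  have hp : IsPGroup 3 ↥(zpowers x) := IsPGroup.of_card (n := i) (by rw [Nat.card_zpowers, hi])
  set R := zpowers x ⊔ Q with hR
  have hRp : IsPGroup 3 ↥R := hp.to_sup_of_normal_right' hQ (zpowers_le.2 hx)
  obtain ⟨k, hk⟩ := IsPGroup.iff_card.1 hRp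
  have hle : Nat.card ↥R ≤ Nat.card ↥Q := by
    rw [hc, hk]
    refine Nat.le_of_dvd (pow_pos (by have := S.lp.q_ge; omega) 3) ((S.three_coprime.pow_left k).dvd_of_dvd_mul_left ?_)
    rw [← S.card_G', ← hk]
    exact card_subgroup_dvd_card R
  rw [eq_of_le_of_card_ge (le_sup_right : Q ≤ R) hle]
  exact mem_sup_left (mem_zpowers x)

theorem w_not_mem : S.w ∉ normalizer (Q : Set G) := by
  intro hw
  obtain ⟨a, ha, ha1⟩ : ∃ a ∈ S.lp.K.U, a ≠ 1 := by
    by_contra hh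
    push Not at hh
    have h := S.lp.K.card_U
    rw [(eq_bot_iff_forall _).2 hh, card_bot] at h
    have := S.lp.q_ge
    omega
  exact ha1 (S.B.inj ((S.inter_eq hc hQ hUQ hT (hUQ ⟨a, ha, rfl⟩)
    ((mem_normalizer_iff.1 hw _).1 (hUQ ⟨a, ha, rfl⟩))).trans (map_one _).symm))

theorem card_QT : Nat.card ↥(S.T ⊔ Q) = S.lp.D.q ^ 3 * (S.lp.D.q - 1) := by
  have hcop : (Nat.card ↥S.T).Coprime (Nat.card ↥Q) := by
    rw [hc, S.card_T, S.lp.hqe, ← pow_mul]
    refine ((Nat.Prime.coprime_iff_not_dvd Nat.prime_three).2 fun h => ?_).pow_left _ |>.symm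
    have h3 := S.lp.three_dvd_q
    have := S.lp.q_ge
    rw [← S.lp.hqe] at h
    omega
  have h := Grp.card_sup_mul_card_inf (H := S.T) (N := Q) hT
  rwa [Grp.inf_eq_bot_of_coprime hcop, card_bot, mul_one, hc, S.card_T, mul_comm (_ - 1)] at h

/-- The coset decomposition `G = N ∪ Q w N`. -/
theorem double_coset : (normalizer (Q : Set G)).index = S.lp.D.q ^ 3 + 1 ∧
    ∀ g : G, g ∉ normalizer (Q : Set G) → ∃ p ∈ Q, ∃ n ∈ normalizer (Q : Set G), g = p * S.w * n := by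
  set N := normalizer (Q : Set G) with hNdef
  haveI : Finite (G ⧸ N) := inferInstance
  let f : Option ↥Q → G ⧸ N := fun o => o.elim ((1 : G) : G ⧸ N) fun p => (((p : G) * S.w : G) : G ⧸ N)
  have hne : ∀ p : ↥Q, ((1 : G) : G ⧸ N) ≠ (((p : G) * S.w : G) : G ⧸ N) := fun p h => by
    rw [QuotientGroup.eq, inv_one, one_mul] at h
    exact S.w_not_mem hc hQ hUQ hT (by
      have h' := mul_mem (inv_mem (le_normalizer p.2 : (p : G) ∈ N)) h
      rwa [inv_mul_cancel_left] at h')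
  have hf : Function.Injective f := by
    rintro (_ | p) (_ | p') h
    · rfl
    · exact absurd h (hne p')
    · exact absurd h.symm (hne p)
    · change (((p : G) * S.w : G) : G ⧸ N) = (((p' : G) * S.w : G) : G ⧸ N) at h
      rw [QuotientGroup.eq, _root_.mul_inv_rev] at h
      have hd : (p : G)⁻¹ * p' ∈ Q := mul_mem (inv_mem p.2) p'.2
      obtain ⟨j, hj⟩ := hQ ⟨_, hd⟩
      have hw : S.w * ((p : G)⁻¹ * p') * S.w⁻¹ ∈ Q := by
        refine S.three_mem hc hQ hUQ hT (j := j) ?_ ?_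
        · rw [conj_pow, show ((p : G)⁻¹ * p') ^ 3 ^ j = 1 from congrArg Subtype.val hj]; group
        · convert h using 1
          rw [S.w_inv]; group
      exact congrArg some (Subtype.ext (inv_mul_eq_one.1 (S.inter_eq hc hQ hUQ hT hd hw)))
  have hge : S.lp.D.q ^ 3 + 1 ≤ N.index := by
    rw [← hc, ← Finite.card_option]
    exact Nat.card_le_card_of_injective f hf
  have hN1 : S.lp.D.q ^ 3 * (S.lp.D.q - 1) ≤ Nat.card ↥N := by
    rw [← S.card_QT hc hQ hUQ hT]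
    exact Nat.card_le_card_of_injective _ (Subgroup.inclusion_injective (sup_le hT le_normalizer))
  have hq1 : 0 < S.lp.D.q - 1 := by have := S.lp.q_ge; omega
  have hpos : 0 < S.lp.D.q ^ 3 * (S.lp.D.q - 1) :=
    Nat.mul_pos (pow_pos (by have := S.lp.q_ge; omega) 3) hq1
  have hmul : Nat.card ↥N * N.index = S.lp.D.q ^ 3 * (S.lp.D.q - 1) * (S.lp.D.q ^ 3 + 1) := by
    rw [N.card_mul_index, S.card_G]; ring
  have hindex : N.index = S.lp.D.q ^ 3 + 1 := by
    refine le_antisymm ?_ hge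
    by_contra hh
    have : S.lp.D.q ^ 3 * (S.lp.D.q - 1) * (S.lp.D.q ^ 3 + 1) < Nat.card ↥N * N.index :=
      lt_of_lt_of_le (Nat.mul_lt_mul_of_pos_left (not_le.1 hh) hpos) (Nat.mul_le_mul_right _ hN1)
    omega
  refine ⟨hindex, fun g hg => ?_⟩
  have hsurj : Function.Surjective f :=
    (hf.bijective_of_nat_card_le (by
      rw [show Nat.card (G ⧸ N) = N.index from rfl, hindex, Finite.card_option, hc])).2
  obtain ⟨o, ho⟩ := hsurj (g : G ⧸ N)
  rcases o with _ | p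
  · exfalso
    refine hg ?_
    change ((1 : G) : G ⧸ N) = (g : G ⧸ N) at ho
    rwa [QuotientGroup.eq, inv_one, one_mul] at ho
  · change (((p : G) * S.w : G) : G ⧸ N) = (g : G ⧸ N) at ho
    exact ⟨p, p.2, _, QuotientGroup.eq.1 ho, by group⟩

omit hc hQ hUQ hT in
/-- The doubly transitive action. -/
theorem exists_two_transitive :
    ∃ N : Subgroup G, N.index = S.lp.D.q ^ 3 + 1 ∧ MulAction.IsMultiplyPretransitive G (G ⧸ N) 2 := by
  obtain ⟨Q, hc, hQ, hUQ, hT⟩ := S.exists_sylow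
  obtain ⟨hidx, hdc⟩ := S.double_coset hc hQ hUQ hT
  set N := normalizer (Q : Set G) with hN
  refine ⟨N, hidx, ?_⟩
  -- every pair of distinct cosets is a translate of the pair `N, w N`
  have key : ∀ a b : G ⧸ N, a ≠ b → ∃ g : G, g • ((1 : G) : G ⧸ N) = a ∧ g • ((S.w : G) : G ⧸ N) = b := by
    intro a b hab
    obtain ⟨x, rfl⟩ := QuotientGroup.mk_surjective a
    obtain ⟨y, rfl⟩ := QuotientGroup.mk_surjective b
    obtain ⟨p, hp, n, hn, e⟩ := hdc (x⁻¹ * y) (fun h => hab (QuotientGroup.eq.2 h))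
    refine ⟨x * p, ?_, ?_⟩
    · rw [MulAction.Quotient.smul_coe, smul_eq_mul, mul_one, QuotientGroup.eq,
        show (x * p)⁻¹ * x = p⁻¹ by group]
      exact inv_mem (le_normalizer hp)
    · rw [MulAction.Quotient.smul_coe, smul_eq_mul, QuotientGroup.eq,
        show (x * p * S.w)⁻¹ * y = (p * S.w)⁻¹ * (x⁻¹ * y) by group, e,
        show (p * S.w)⁻¹ * (p * S.w * n) = n by group]
      exact hn
  rw [MulAction.is_two_pretransitive_iff]
  intro a b c d hab hcd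
  obtain ⟨g, hg1, hg2⟩ := key a b hab
  obtain ⟨h, hh1, hh2⟩ := key c d hcd
  exact ⟨h * g⁻¹, by rw [mul_smul, ← hg1, inv_smul_smul, hh1], by rw [mul_smul, ← hg2, inv_smul_smul, hh2]⟩

end Data

end Cfsg.Agent.Invol.AbelTwo.ReeTrans
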