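import Cfsg.Agent.Lib.Invol.AbelTwo.ReeTrans.Action
import Cfsg.Agent.Lib.Invol.AbelTwo.Consumers
import Cfsg.Agent.Lib.Invol.AbelTwo.ThreeElts
import Cfsg.Agent.Lib.Invol.JankoWard.LCharsPSL
import Cfsg.Agent.Lib.Invol.JankoWard.Local
import Mathlib.LinearAlgebra.Projectivization.Action

/-!
# Simple groups with abelian Sylow 2-subgroups and no doubly transitive action

Modulo the Janko–Thompson–Ward theorem.
-/

set_option autoImplicit false
set_option linter.unusedSectionVars false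
set_option linter.style.haveILetI false

namespace Cfsg.Agent.Invol.AbelTwo

open Subgroup
open scoped _root_.Classical LinearAlgebra.Projectivization

universe u

variable {G : Type u} [Group G] [Finite G]

/-- The Ree case has a doubly transitive action of degree `q³ + 1`. -/
theorem ree_two_transitive [IsSimpleGroup G] (hG : ¬ IsMulCommutative G) (S : Sylow 2 G)
    (h8 : Nat.card ↥(S : Subgroup G) = 8) (hel : ∀ x ∈ (S : Subgroup G), x * x = 1) {t : G} (ht : orderOf t = 2)
    (hodd : Odd (centralizer ({t} : Set G)).index) {L : Subgroup G}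
    (hL : Cfsg.IsInternalDirectProduct (zpowers t) L (centralizer ({t} : Set G)))
    {F : Type} [Field F] [Fintype F] {m : ℕ} (hm : 1 ≤ m) (hF : Fintype.card F = 3 ^ (2 * m + 1))
    (e : ↥L ≃* Matrix.ProjectiveSpecialLinearGroup (Fin 2) F)
    (hord : Nat.card G = (3 ^ (2 * m + 1)) ^ 3 * ((3 ^ (2 * m + 1)) ^ 3 + 1) * (3 ^ (2 * m + 1) - 1)) :
    ∃ N : Subgroup G, N.index = (3 ^ (2 * m + 1)) ^ 3 + 1 ∧ MulAction.IsMultiplyPretransitive G (G ⧸ N) 2 := by
  obtain ⟨-, -, hcomm, hinf, hsup⟩ := hL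
  let ι : Matrix.ProjectiveSpecialLinearGroup (Fin 2) F →* G := L.subtype.comp e.symm.toMonoidHom
  have hmem : ∀ k, ι k ∈ L := fun k => (e.symm k).2
  have htc : ∀ k, ι k * t = t * ι k := fun k => (hcomm t (mem_zpowers t) _ (hmem k)).symm
  have hinj : Function.Injective ι := Subtype.val_injective.comp e.symm.injective
  have hn : L ≤ normalizer (zpowers t : Set G) := fun k hk => centralizer_le_normalizer _
    (mem_centralizer_iff.2 fun d hd => hcomm d hd k hk)
  have hcover : ∀ c : G, c * t = t * c → ∃ k, c = ι k ∨ c = t * ι k := by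
    intro c hc
    have hc' : c ∈ zpowers t ⊔ L := by rw [hsup]; exact mem_centralizer_singleton_iff.2 hc
    rw [← SetLike.mem_coe, coe_mul_of_right_le_normalizer_left _ _ hn] at hc'
    obtain ⟨d, hd, k, hk, rfl⟩ := hc'
    obtain ⟨i, rfl⟩ := mem_zpowers_iff.1 hd
    refine ⟨e ⟨k, hk⟩, ?_⟩
    show t ^ i * k = ι (e ⟨k, hk⟩) ∨ t ^ i * k = t * ι (e ⟨k, hk⟩)
    rw [show ι (e ⟨k, hk⟩) = k by simp [ι], ← zpow_mod_orderOf, ht]
    rcases (show i % ((2 : ℕ) : ℤ) = 0 ∨ i % ((2 : ℕ) : ℤ) = 1 by omega) with h | h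
      <;> simp only [Nat.cast_ofNat] at h ⊢ <;> simp [h]
  have htnot : ∀ k, ι k ≠ t := fun k hk => by
    have h1 : t ∈ zpowers t ⊓ L := ⟨mem_zpowers t, hk ▸ hmem k⟩
    rw [hinf, mem_bot] at h1
    rw [h1, orderOf_one] at ht
    norm_num at ht
  have h8F : Fintype.card F % 8 = 3 := by
    rw [hF, pow_succ, pow_mul, Nat.mul_mod, Nat.pow_mod]; norm_num
  have h27 : 27 ≤ Fintype.card F := by
    rw [hF]; exact le_trans (show 27 ≤ 3 ^ 3 by norm_num) (Nat.pow_le_pow_right (by norm_num) (by omega))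
  obtain ⟨D, -, hDq⟩ := JankoWard.PSL.exists_lData_lChars F (Or.inl h8F) (by omega)
  obtain ⟨pk⟩ := ReeAbel.exists_pack (F := F) (by omega)
  have hδ : D.δ = -1 := by
    rcases D.hδ with h | h
    · exfalso
      have h1 := D.hq
      obtain ⟨d, hd⟩ := D.r_odd
      rw [h, hDq] at h1
      omega
    · exact h
  let lp : ReeTrans.LPack (Matrix.ProjectiveSpecialLinearGroup (Fin 2) F) :=
    { D := D
      K := hDq ▸ pk
      e := 2 * m + 1
      hqe := hDq.trans hF
      q_ge := hDq ▸ h27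
      hδ := hδ
      rigid := fun k hk hk1 a j ha h => psl_three_rigid hF hk hk1 ha h }
  let B : JankoWard.Base G (Matrix.ProjectiveSpecialLinearGroup (Fin 2) F) :=
    { D := D, t := t, ι := ι, inj := hinj, ht := ht, hodd := hodd, tc := htc, cover := hcover, t_not := htnot }
  have A := JankoWard.Amb.of_sylow hG S h8 hel
  obtain ⟨loc⟩ := B.exists_locals A
  let T : ReeTrans.Data G (Matrix.ProjectiveSpecialLinearGroup (Fin 2) F) :=
    { lp := lp, B := B, hBD := rfl, loc := loc, amb := A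
      card_G := by
        show Nat.card G = D.q ^ 3 * (D.q ^ 3 + 1) * (D.q - 1)
        rw [hDq, hF]; exact hord }
  obtain ⟨N, hN, h2⟩ := T.exists_two_transitive
  exact ⟨N, by rw [hN]; show D.q ^ 3 + 1 = _; rw [hDq, hF], h2⟩

/-- An action with at least two points of a simple group that is transitive on ordered pairs is faithful. -/
theorem faithful_of_two_transitive [IsSimpleGroup G] {Ω : Type*} [MulAction G Ω]
    (h : MulAction.IsMultiplyPretransitive G Ω 2) {a b : Ω} (hab : a ≠ b) : FaithfulSMul G Ω := by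
  rcases (MonoidHom.normal_ker (MulAction.toPermHom G Ω)).eq_bot_or_eq_top with h0 | h0
  · rw [MonoidHom.ker_eq_bot_iff] at h0
    exact ⟨fun {g g'} hg => h0 (Equiv.ext hg)⟩
  · exfalso
    obtain ⟨g, hg, -⟩ := MulAction.is_two_pretransitive_iff.1 h hab (Ne.symm hab)
    have hg1 : g ∈ (MulAction.toPermHom G Ω).ker := h0 ▸ mem_top g
    exact hab ((Equiv.congr_fun (MonoidHom.mem_ker.1 hg1) a).symm.trans hg)

/-- A group isomorphic to `L2(F)` has a faithful doubly transitive action. -/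
theorem psl_two_transitive {F : Type} [Field F] [Fintype F] [IsSimpleGroup G]
    (e : G ≃* Matrix.ProjectiveSpecialLinearGroup (Fin 2) F) :
    ∃ (n : ℕ) (_ : MulAction G (Fin n)) (_ : FaithfulSMul G (Fin n)),
      MulAction.IsMultiplyPretransitive G (Fin n) 2 := by
  haveI : Finite (ℙ F (Fin 2 → F)) :=
    Finite.of_surjective (fun v : {v : Fin 2 → F // v ≠ 0} => Projectivization.mk F v.1 v.2) fun p =>
      ⟨⟨p.rep, p.rep_nonzero⟩, p.mk_rep⟩
  let eΩ := Finite.equivFin (ℙ F (Fin 2 → F))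
  let φ : G →* Equiv.Perm (Fin (Nat.card (ℙ F (Fin 2 → F)))) :=
    (eΩ.permCongrHom).toMonoidHom.comp (Projectivization.PSLAction.toPermHom.comp e.toMonoidHom)
  letI : MulAction G (Fin (Nat.card (ℙ F (Fin 2 → F)))) := MulAction.compHom _ φ
  have hsmul : ∀ (g : Matrix.SpecialLinearGroup (Fin 2) F) (p : ℙ F (Fin 2 → F)),
      e.symm (QuotientGroup.mk g) • eΩ p = eΩ (g • p) := by
    intro g p
    show eΩ (Projectivization.PSLAction.toPermHom (e (e.symm (QuotientGroup.mk g))) (eΩ.symm (eΩ p))) = _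
    rw [MulEquiv.apply_symm_apply, Equiv.symm_apply_apply]
    rfl
  have h2 : MulAction.IsMultiplyPretransitive G (Fin (Nat.card (ℙ F (Fin 2 → F)))) 2 := by
    rw [MulAction.is_two_pretransitive_iff]
    intro a b c d hab hcd
    obtain ⟨g, hg1, hg2⟩ := MulAction.is_two_pretransitive_iff.1
      (inferInstance : MulAction.IsMultiplyPretransitive (Matrix.SpecialLinearGroup (Fin 2) F) (ℙ F (Fin 2 → F)) 2)
      (eΩ.symm.injective.ne hab) (eΩ.symm.injective.ne hcd)
    refine ⟨e.symm (QuotientGroup.mk g), ?_, ?_⟩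
    · rw [← eΩ.apply_symm_apply a, hsmul, hg1, eΩ.apply_symm_apply]
    · rw [← eΩ.apply_symm_apply b, hsmul, hg2, eΩ.apply_symm_apply]
  have hne : Projectivization.mk F ![1, 0] (fun h : (![1, 0] : Fin 2 → F) = 0 => one_ne_zero (congrFun h 0)) ≠
      Projectivization.mk F ![0, 1] (fun h : (![0, 1] : Fin 2 → F) = 0 => one_ne_zero (congrFun h 1)) := by
    intro h
    obtain ⟨a, ha⟩ := (Projectivization.mk_eq_mk_iff' F _ _ _ _).1 h
    simpa using congrFun ha 0
  exact ⟨_, inferInstance, faithful_of_two_transitive h2 (eΩ.injective.ne hne), h2⟩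

/-- Abelian Sylow 2-subgroups and no doubly transitive action. -/
theorem order_of_no_two_transitive (hub : JankoWard.WardHub.{u}) [IsSimpleGroup G] (hG : ¬ IsMulCommutative G)
    (S : Sylow 2 G) (hS : IsMulCommutative ↥(S : Subgroup G))
    (hno : ∀ (Ω : Type) [Fintype Ω] [MulAction G Ω] [FaithfulSMul G Ω], ¬ MulAction.IsMultiplyPretransitive G Ω 2) :
    Nat.card G = 175560 := by
  haveI : Fact (Nat.Prime 2) := ⟨Nat.prime_two⟩
  have hpsl : ∀ (F : Type) [Field F] [Fintype F],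
      Nonempty (G ≃* Matrix.ProjectiveSpecialLinearGroup (Fin 2) F) → False := by
    intro F _ _ ⟨e⟩
    obtain ⟨n, i, j, h⟩ := psl_two_transitive e
    exact hno (Fin n) h
  rcases trichotomy hG (ThreeFree.two_dvd_card hG) S hS with ⟨F, i, j, n, -, -, he⟩ | ⟨F, i, j, -, -, -, he⟩ |
    ⟨h8, hE, hJ⟩
  · exact (hpsl F he).elim
  · exact (hpsl F he).elim
  obtain ⟨⟨t, htS⟩, ht⟩ := exists_prime_orderOf_dvd_card' (G := ↥(S : Subgroup G)) 2 (by rw [h8]; norm_num)
  rw [Subgroup.orderOf_mk] at ht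
  obtain ⟨hodd, L, hL, F, i, j, ⟨e⟩, h5 | ⟨m, hm, hF, hord⟩⟩ := hub G inferInstance hG S h8 hE hJ t ht
  · obtain ⟨-, h⟩ := j1_of_five S hS h8 ht hL h5 e
    exact h.2
  exfalso
  obtain ⟨N, hN, h2⟩ := ree_two_transitive hG S h8 hE ht hodd hL hm hF e hord
  let eΩ := Finite.equivFin (G ⧸ N)
  letI : MulAction G (Fin (Nat.card (G ⧸ N))) :=
    MulAction.compHom _ ((eΩ.permCongrHom).toMonoidHom.comp (MulAction.toPermHom G (G ⧸ N)))
  have hsmul : ∀ (g : G) (p : G ⧸ N), g • eΩ p = eΩ (g • p) := fun g p => by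
    show eΩ (g • eΩ.symm (eΩ p)) = _
    rw [Equiv.symm_apply_apply]
  have h2' : MulAction.IsMultiplyPretransitive G (Fin (Nat.card (G ⧸ N))) 2 := by
    rw [MulAction.is_two_pretransitive_iff]
    intro a b c d hab hcd
    obtain ⟨g, hg1, hg2⟩ := MulAction.is_two_pretransitive_iff.1 h2
      (eΩ.symm.injective.ne hab) (eΩ.symm.injective.ne hcd)
    exact ⟨g, by rw [← eΩ.apply_symm_apply a, hsmul, hg1, eΩ.apply_symm_apply],
      by rw [← eΩ.apply_symm_apply b, hsmul, hg2, eΩ.apply_symm_apply]⟩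
  haveI : Nontrivial (Fin (Nat.card (G ⧸ N))) := by
    refine Fin.nontrivial_iff_two_le.2 ?_
    rw [show Nat.card (G ⧸ N) = N.index from rfl, hN]
    have : 1 ≤ (3 ^ (2 * m + 1)) ^ 3 := Nat.one_le_pow _ _ (pow_pos (by norm_num) _)
    omega
  obtain ⟨a, b, hab⟩ := exists_pair_ne (Fin (Nat.card (G ⧸ N)))
  haveI := faithful_of_two_transitive h2' hab
  exact hno _ h2'

end Cfsg.Agent.Invol.AbelTwo
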