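import Cfsg.Agent.Lib.Invol.JankoWard.Base
import Cfsg.Agent.Lib.Invol.AbelTwo.ReeAbel.Psl

/-!
# Normaliser of the root subgroup and centraliser of the split torus in `L2(q)`, `q = 3^e`, `q ≡ 3 (mod 8)`
-/

set_option autoImplicit false
set_option linter.unusedSectionVars false
set_option linter.style.haveILetI false

namespace Cfsg.Agent.Invol.AbelTwo.ReeTrans

open Subgroup
open scoped _root_.Classical

universe v

/-- The two descriptions of `L2(q)` side by side. -/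
structure LPack (P : Type v) [Group P] where
  /-- the torus of the involutions -/
  D : JankoWard.LData P
  /-- root subgroup and split torus -/
  K : ReeAbel.Pack P D.q
  /-- the exponent -/
  e : ℕ
  hqe : D.q = 3 ^ e
  q_ge : 27 ≤ D.q
  hδ : D.δ = -1
  rigid : ∀ k : P, k ^ 3 = 1 → k ≠ 1 → ∀ a : P, ∀ j : ℕ, a ^ 2 ^ j = 1 →
    a * k * a⁻¹ = k ∨ a * k * a⁻¹ = k⁻¹ → a = 1

namespace LPack

variable {P : Type v} [Group P] (S : LPack P)
include S

theorem finiteP : Finite P := S.D.finite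

/-- The order of the split torus. -/
def m : ℕ := 2 * S.D.r - 1

theorem q_eq_r : S.D.q + 1 = 4 * S.D.r := by
  have h := S.D.hq
  rw [S.hδ] at h
  omega

theorem q_eq_m : S.D.q = 2 * S.m + 1 := by
  have h := S.q_eq_r
  have := S.q_ge
  simp only [m]; omega

theorem card_Y : Nat.card ↥S.K.Y = S.m := by
  have h := S.K.card_Y
  have := S.q_eq_m
  omega

theorem m_pos : 1 < S.m := by
  have := S.q_eq_m; have := S.q_ge; omega

theorem m_odd : Odd S.m := S.card_Y ▸ S.K.Y_odd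

theorem three_dvd_q : 3 ∣ S.D.q := by
  rw [S.hqe]
  refine dvd_pow_self 3 fun h0 => ?_
  have := S.q_ge
  rw [S.hqe, h0] at this
  norm_num at this

theorem not_three_dvd_r : ¬ 3 ∣ S.D.r := by
  intro h
  have := S.three_dvd_q; have := S.q_eq_r
  omega

theorem not_three_dvd_m : ¬ 3 ∣ S.m := by
  intro h
  have := S.three_dvd_q; have := S.q_eq_m
  omega

theorem card_P : Nat.card P = 4 * S.D.r * S.m * S.D.q := by
  refine Nat.eq_of_mul_eq_mul_right two_pos ?_
  rw [S.D.card_P, show S.D.q - 1 = 2 * S.m by have := S.q_eq_m; omega, S.q_eq_r]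
  ring

theorem coprime_r_m : (2 * S.D.r).Coprime S.m := by
  have h1 : 2 * S.D.r = S.m + 1 := by
    have := S.D.r3; simp only [m]; omega
  rw [h1, Nat.coprime_self_add_left]
  exact Nat.coprime_one_left _

theorem pow_m {y : P} (hy : y ∈ S.K.Y) : y ^ S.m = 1 := by
  haveI := S.finiteP
  have h : (⟨y, hy⟩ : ↥S.K.Y) ^ Nat.card ↥S.K.Y = 1 := pow_card_eq_one'
  rw [S.card_Y] at h
  exact congrArg Subtype.val h

theorem eq_one_of_pow {M : Type*} [Monoid M] {x : M} (h1 : x ^ (2 * S.D.r) = 1) (h2 : x ^ S.m = 1) : x = 1 := by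
  have h : x ^ Nat.gcd (2 * S.D.r) S.m = 1 := pow_gcd_eq_one.2 ⟨h1, h2⟩
  rwa [S.coprime_r_m.gcd_eq_one, pow_one] at h

theorem sq_mem_of_cent_u {x : P} (hx : x * S.D.u = S.D.u * x) : x * x ∈ S.D.Y := by
  obtain ⟨y, hy, h⟩ := S.D.cent_u x hx
  have hu := S.D.u_Y y hy
  have hw : S.D.w * y * S.D.w = y⁻¹ := by
    conv_lhs => arg 2; rw [← inv_eq_of_mul_eq_one_right S.D.w2]
    exact S.D.w_Y y hy
  rcases h with rfl | rfl | rfl | rfl
  · exact mul_mem hy hy
  · rw [show S.D.u * y * (S.D.u * y) = S.D.u * y * S.D.u * y by group, hu,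
      show y * S.D.u * S.D.u * y = y * (S.D.u * S.D.u) * y by group, S.D.u2, mul_one]
    exact mul_mem hy hy
  · rw [show S.D.w * y * (S.D.w * y) = S.D.w * y * S.D.w * y by group, hw, inv_mul_cancel]
    exact one_mem _
  · have e : S.D.u * S.D.w * y * (S.D.u * S.D.w * y) = 1 := by
      calc _ = S.D.u * S.D.w * (y * S.D.u) * S.D.w * y := by group
        _ = S.D.u * (S.D.w * S.D.u) * y * S.D.w * y := by rw [← hu]; group
        _ = S.D.u * S.D.u * (S.D.w * y * S.D.w) * y := by rw [← S.D.comm]; group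
        _ = 1 := by rw [S.D.u2, hw, one_mul, inv_mul_cancel]
    rw [e]; exact one_mem _

theorem pow_of_cent_u {x : P} (hx : x * S.D.u = S.D.u * x) : x ^ (2 * S.D.r) = 1 := by
  rw [pow_mul, pow_two]
  exact S.D.pow_r (S.sq_mem_of_cent_u hx)

theorem torus_no_invol {y a : P} (hy : y ∈ S.K.Y) (hy1 : y ≠ 1) (ha : a * a = 1) (ha1 : a ≠ 1) :
    ¬ Commute y a := by
  intro hc
  obtain ⟨c, hc'⟩ := isConj_iff.1 (S.D.one_class a ha ha1)
  have hx : (c⁻¹ * y * c) * S.D.u = S.D.u * (c⁻¹ * y * c) := by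
    calc (c⁻¹ * y * c) * S.D.u = c⁻¹ * (y * (c * S.D.u * c⁻¹)) * c := by group
      _ = c⁻¹ * ((c * S.D.u * c⁻¹) * y) * c := by rw [hc', hc.eq]
      _ = _ := by group
  have h1 := S.pow_of_cent_u hx
  have h2 : (c⁻¹ * y * c) ^ (2 * S.D.r) = c⁻¹ * y ^ (2 * S.D.r) * (c⁻¹)⁻¹ := by
    rw [← conj_pow, inv_inv]
  rw [h2, conj_eq_one_iff] at h1
  exact hy1 (S.eq_one_of_pow h1 (S.pow_m hy))

theorem odd_cent {x : P} (hx : ∀ a : P, a * a = 1 → a ≠ 1 → ¬ Commute x a) :
    Odd (Nat.card ↥(centralizer ({x} : Set P))) := by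
  haveI := S.finiteP
  haveI : Fact (Nat.Prime 2) := ⟨Nat.prime_two⟩
  by_contra h
  obtain ⟨⟨a, ha⟩, ho⟩ := exists_prime_orderOf_dvd_card' (G := ↥(centralizer ({x} : Set P))) 2
    (even_iff_two_dvd.1 (Nat.not_odd_iff_even.1 h))
  rw [orderOf_mk] at ho
  refine hx a (by rw [← pow_two, ← ho, pow_orderOf_eq_one]) (fun e => ?_)
    (mem_centralizer_singleton_iff.1 ha).symm
  rw [e, orderOf_one] at ho
  omega

/-- The split torus is self-centralising. -/
theorem cent_torus {y x : P} (hy : y ∈ S.K.Y) (hy1 : y ≠ 1) (hxy : x * y = y * x) : x ∈ S.K.Y := by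
  haveI := S.finiteP
  set C := centralizer ({y} : Set P) with hC
  have hle : S.K.Y ≤ C := fun z hz => mem_centralizer_singleton_iff.2 (S.K.Y_comm z hz y hy)
  have hcard : Nat.card ↥C = S.m := by
    rcases S.D.cent_odd y hy1 (S.odd_cent fun a ha ha1 => S.torus_no_invol hy hy1 ha ha1) with h | h
    · have hm : (S.m : ℤ) = 2 * (S.D.r : ℤ) + S.D.δ := by
        have := S.D.r3
        rw [S.hδ]; simp only [m]; omega
      rw [← hm] at h
      exact_mod_cast h
    · exfalso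
      have hd := card_dvd_of_le hle
      rw [h, S.card_Y, S.q_eq_m] at hd
      have := (Nat.dvd_add_right (Dvd.intro_left 2 rfl)).1 hd
      have := S.m_pos
      simp at *
      omega
  have he : S.K.Y = C := eq_of_le_of_card_ge hle (by rw [hcard, S.card_Y])
  rw [he]
  exact mem_centralizer_singleton_iff.2 hxy

theorem U_inf_Y : S.K.U ⊓ S.K.Y = ⊥ := by
  haveI := S.finiteP
  refine Grp.inf_eq_bot_of_coprime ?_
  rw [S.K.card_U, S.card_Y, S.hqe]
  exact (((Nat.Prime.coprime_iff_not_dvd Nat.prime_three).2 S.not_three_dvd_m)).pow_left _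

theorem exists_order_three {k : P} (hk : k ∈ S.K.U) (hk1 : k ≠ 1) :
    ∃ i : ℕ, (k ^ i) ^ 3 = 1 ∧ k ^ i ≠ 1 := by
  haveI := S.finiteP
  have hp : IsPGroup 3 ↥S.K.U := IsPGroup.of_card (n := S.e) (S.K.card_U.trans S.hqe)
  obtain ⟨j, hj⟩ := hp ⟨k, hk⟩
  have hj' : k ^ 3 ^ j = 1 := congrArg Subtype.val hj
  obtain ⟨i, -, hi⟩ := (Nat.dvd_prime_pow Nat.prime_three).1 (orderOf_dvd_of_pow_eq_one hj')
  rcases Nat.eq_zero_or_pos i with h0 | h0
  · rw [h0, pow_zero, orderOf_eq_one_iff] at hi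
    exact absurd hi hk1
  refine ⟨3 ^ (i - 1), ?_, ?_⟩
  · rw [← pow_mul, ← pow_succ, show i - 1 + 1 = i by omega, ← hi, pow_orderOf_eq_one]
  · intro h
    have h' := orderOf_dvd_of_pow_eq_one h
    rw [hi, Nat.pow_dvd_pow_iff_le_right (by norm_num : (1 : ℕ) < 3)] at h'
    omega

/-- A nontrivial root element has centraliser the root subgroup. -/
theorem cent_root {k x : P} (hk : k ∈ S.K.U) (hk1 : k ≠ 1) (hxk : x * k = k * x) : x ∈ S.K.U := by
  haveI := S.finiteP
  set C := centralizer ({k} : Set P) with hC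
  have hle : S.K.U ≤ C := fun z hz => mem_centralizer_singleton_iff.2 (S.K.U_comm z hz k hk)
  have hodd : Odd (Nat.card ↥C) := S.odd_cent fun a ha ha1 hc => by
    obtain ⟨i, h3, h1⟩ := S.exists_order_three hk hk1
    refine ha1 (S.rigid _ h3 h1 a 1 (by rw [pow_one, pow_two, ha]) (Or.inl ?_))
    rw [mul_inv_eq_iff_eq_mul]
    exact ((hc.pow_left i).symm).eq
  have hcard : Nat.card ↥C = S.D.q := by
    rcases S.D.cent_odd k hk1 hodd with h | h
    · exfalso
      have hd := card_dvd_of_le hle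
      have hm : (S.m : ℤ) = 2 * (S.D.r : ℤ) + S.D.δ := by
        have := S.D.r3
        rw [S.hδ]; simp only [m]; omega
      rw [← hm] at h
      rw [show Nat.card ↥C = S.m by exact_mod_cast h, S.K.card_U] at hd
      have := Nat.le_of_dvd (by have := S.m_pos; omega) hd
      have := S.q_eq_m
      omega
    · exact h
  have he : S.K.U = C := eq_of_le_of_card_ge hle (by rw [hcard, S.K.card_U])
  rw [he]
  exact mem_centralizer_singleton_iff.2 hxk

/-- The normaliser of the root subgroup is the Borel subgroup. -/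
theorem norm_root {x : P} (hx : x ∈ normalizer (S.K.U : Set P)) :
    ∃ a ∈ S.K.U, ∃ y ∈ S.K.Y, x = a * y := by
  haveI := S.finiteP
  set N := normalizer (S.K.U : Set P) with hN
  obtain ⟨k0, hk0, hk01⟩ : ∃ k ∈ S.K.U, k ≠ 1 := by
    by_contra hh
    push Not at hh
    have h := S.K.card_U
    rw [(eq_bot_iff_forall _).2 hh, card_bot] at h
    have := S.q_ge
    omega
  -- no involution normalises the root subgroup
  have hinv : ∀ a ∈ N, a * a = 1 → a = 1 := by
    intro a ha ha2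
    by_contra ha1
    have hai : a⁻¹ = a := inv_eq_of_mul_eq_one_right ha2
    by_cases hfix : ∃ k ∈ S.K.U, k * (a * k * a⁻¹) ≠ 1
    · obtain ⟨k, hk, hk'⟩ := hfix
      have hk2 := (mem_normalizer_iff.1 ha k).1 hk
      refine ha1 ?_
      have hfixed : a * (k * (a * k * a⁻¹)) = k * (a * k * a⁻¹) * a := by
        calc a * (k * (a * k * a⁻¹)) = (a * k * a⁻¹) * (a * a) * k * a⁻¹ := by group
          _ = (a * k * a⁻¹) * k * a⁻¹ := by rw [ha2, mul_one]
          _ = k * (a * k * a⁻¹) * a⁻¹ := by rw [S.K.U_comm _ hk2 _ hk]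
          _ = k * (a * k * a⁻¹) * a := by rw [hai]
      obtain ⟨i, h3, h1⟩ := S.exists_order_three (mul_mem hk hk2) hk'
      refine S.rigid _ h3 h1 a 1 (by rw [pow_one, pow_two, ha2]) (Or.inl ?_)
      rw [mul_inv_eq_iff_eq_mul]
      exact ((Commute.pow_right hfixed i)).eq
    · push Not at hfix
      obtain ⟨i, h3, h1⟩ := S.exists_order_three hk0 hk01
      refine ha1 (S.rigid _ h3 h1 a 1 (by rw [pow_one, pow_two, ha2]) (Or.inr ?_))
      exact eq_inv_of_mul_eq_one_right (hfix _ (pow_mem hk0 i))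
  -- primes dividing the order of the normaliser
  have hprime : ∀ r0 : ℕ, r0.Prime → r0 ∣ Nat.card ↥N → ¬ r0 ∣ 4 * S.D.r := by
    intro r0 hr0 hdvd hd4
    haveI := Fact.mk hr0
    obtain ⟨⟨d, hdN⟩, ho⟩ := exists_prime_orderOf_dvd_card' r0 hdvd
    rw [orderOf_mk] at ho
    have hd1 : d ≠ 1 := fun e => by rw [e, orderOf_one] at ho; exact hr0.one_lt.ne ho
    have hr2 : r0 ≠ 2 := fun e => hd1 (hinv d hdN (by rw [← pow_two, ← e, ← ho, pow_orderOf_eq_one]))
    have hr3 : r0 ≠ 3 := fun e => by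
      have := S.not_three_dvd_r; subst e; omega
    let φ : ↥(zpowers d) →* MulAut ↥S.K.U :=
      S.K.U.normalizerMonoidHom.comp (inclusion (zpowers_le.2 hdN))
    letI : MulAction ↥(zpowers d) ↥S.K.U := MulAction.compHom ↥S.K.U φ
    have hp : IsPGroup r0 ↥(zpowers d) := IsPGroup.of_card (n := 1) (by rw [Nat.card_zpowers, ho, pow_one])
    have hmod := hp.card_modEq_card_fixedPoints ↥S.K.U
    have hfx : ∃ k ∈ MulAction.fixedPoints ↥(zpowers d) ↥S.K.U, k ≠ 1 := by
      by_contra hh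
      push Not at hh
      have h1 : Nat.card (MulAction.fixedPoints ↥(zpowers d) ↥S.K.U) = 1 :=
        Nat.card_eq_one_iff_unique.2 ⟨⟨fun a b => Subtype.ext ((hh _ a.2).trans (hh _ b.2).symm)⟩,
          ⟨⟨1, fun g => map_one (φ g)⟩⟩⟩
      rw [h1, S.K.card_U] at hmod
      have h4 : 4 * S.D.r ≡ 0 [MOD r0] := Nat.modEq_zero_iff_dvd.2 hd4
      rw [← S.q_eq_r] at h4
      have h2 := ((hmod.add_right 1).symm.trans h4)
      exact hr2 ((Nat.prime_dvd_prime_iff_eq hr0 Nat.prime_two).1 (Nat.modEq_zero_iff_dvd.1 h2))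
    obtain ⟨k, hk, hk1⟩ := hfx
    have hdk : d * (k : P) * d⁻¹ = k := congrArg Subtype.val (hk ⟨d, mem_zpowers d⟩)
    have hdU : d ∈ S.K.U := S.cent_root k.2 (fun e => hk1 (Subtype.ext e)) (mul_inv_eq_iff_eq_mul.1 hdk)
    have h3 := card_dvd_of_le (zpowers_le.2 hdU)
    rw [Nat.card_zpowers, ho, S.K.card_U, S.hqe] at h3
    exact hr3 ((Nat.prime_dvd_prime_iff_eq hr0 Nat.prime_three).1 (hr0.dvd_of_dvd_pow h3))
  have hYN : S.K.Y ≤ N := fun y hy => mem_normalizer_iff.2 fun a => ⟨S.K.Y_norm y hy a, fun h => by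
    have h' := S.K.Y_norm y⁻¹ (inv_mem hy) _ h
    rwa [show y⁻¹ * (y * a * y⁻¹) * (y⁻¹)⁻¹ = a by group] at h'⟩
  have hcop : (Nat.card ↥N).Coprime (4 * S.D.r) := Nat.coprime_of_dvd fun p hp h1 h2 => hprime p hp h1 h2
  have hdvd : Nat.card ↥N ∣ S.m * S.D.q :=
    hcop.dvd_of_dvd_mul_left (by rw [← mul_assoc, ← S.card_P]; exact card_subgroup_dvd_card N)
  have hcard : Nat.card ↥(S.K.Y ⊔ S.K.U) = S.m * S.D.q := by
    have h := Grp.card_sup_mul_card_inf (H := S.K.Y) (N := S.K.U) hYN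
    rwa [inf_comm, S.U_inf_Y, card_bot, mul_one, S.card_Y, S.K.card_U] at h
  have he : S.K.Y ⊔ S.K.U = N := eq_of_le_of_card_ge (sup_le hYN le_normalizer) (by
    rw [hcard]; exact Nat.le_of_dvd (Nat.mul_pos (by have := S.m_pos; omega) (by have := S.q_ge; omega)) hdvd)
  rw [← he, sup_comm, ← SetLike.mem_coe, coe_mul_of_right_le_normalizer_left _ _ hYN] at hx
  obtain ⟨a, ha, y, hy, rfl⟩ := hx
  exact ⟨a, ha, y, hy, rfl⟩

/-- Elements of prime order dividing `r` are conjugate into the torus of the involution. -/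
theorem conj_into_Y {r0 : ℕ} (hr0 : r0.Prime) (hdvd : r0 ∣ S.D.r) {k : P} (hk : orderOf k = r0) :
    ∃ c : P, c * k * c⁻¹ ∈ S.D.Y := by
  haveI := S.finiteP
  haveI := Fact.mk hr0
  let R0 : Sylow r0 ↥S.D.Y := default
  have hR0 : IsPGroup r0 ↥((R0 : Subgroup ↥S.D.Y).map S.D.Y.subtype) := R0.isPGroup'.map _
  obtain ⟨R, hR⟩ := hR0.exists_le_sylow
  have hcop : r0.Coprime (4 * S.m * S.D.q) := by
    refine hr0.coprime_iff_not_dvd.2 fun h => ?_
    have hr2 : r0 ≠ 2 := fun e => by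
      obtain ⟨d, hd⟩ := S.D.r_odd; subst e; omega
    have h1 : r0 ∣ 4 * S.D.r := hdvd.mul_left 4
    rw [← S.q_eq_r] at h1
    have hone : ¬ r0 ∣ 1 := hr0.not_dvd_one
    rcases hr0.dvd_mul.1 h with h' | h'
    · rcases hr0.dvd_mul.1 h' with h'' | h''
      · exact hr2 ((Nat.prime_dvd_prime_iff_eq hr0 Nat.prime_two).1
          (hr0.dvd_of_dvd_pow (show r0 ∣ 2 ^ 2 by simpa using h'')))
      · exact hone (by
          have hg := Nat.dvd_gcd (hdvd.mul_left 2) h''
          rwa [S.coprime_r_m.gcd_eq_one] at hg)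
    · exact hone ((Nat.dvd_add_right h').1 h1)
  obtain ⟨i, hi⟩ := IsPGroup.iff_card.1 R.isPGroup'
  have hRle : Nat.card ↥(R : Subgroup P) ≤ Nat.card ↥((R0 : Subgroup ↥S.D.Y).map S.D.Y.subtype) := by
    rw [card_map_of_injective S.D.Y.subtype_injective, hi]
    refine Nat.le_of_dvd Nat.card_pos (R0.pow_dvd_card_of_pow_dvd_card ?_)
    rw [S.D.card_Y]
    refine (hcop.pow_left i).dvd_of_dvd_mul_right ?_
    rw [show S.D.r * (4 * S.m * S.D.q) = 4 * S.D.r * S.m * S.D.q by ring, ← S.card_P, ← hi]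
    exact card_subgroup_dvd_card _
  have hRY : (R : Subgroup P) ≤ S.D.Y := by
    rw [← eq_of_le_of_card_ge hR hRle]
    exact map_subtype_le _
  have hkp : IsPGroup r0 ↥(zpowers k) := IsPGroup.of_card (n := 1) (by rw [Nat.card_zpowers, hk, pow_one])
  obtain ⟨R', hR'⟩ := hkp.exists_le_sylow
  obtain ⟨c, hc⟩ := MulAction.exists_smul_eq P R' R
  refine ⟨c, hRY ?_⟩
  rw [← hc, Sylow.smul_def]
  exact ⟨k, hR' (mem_zpowers k), rfl⟩

end LPack

end Cfsg.Agent.Invol.AbelTwo.ReeTrans
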