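import Cfsg.Agent.Lib.Invol.AbelTwo.ReeTrans.Torus
import Cfsg.Agent.Lib.Grp.FrobeniusTheorem

/-!
# A group of Ree type: a Sylow 3-subgroup normalised by the torus
-/

set_option autoImplicit false
set_option linter.unusedSectionVars false
set_option linter.style.haveILetI false

namespace Cfsg.Agent.Invol.AbelTwo.ReeTrans

open Subgroup
open scoped _root_.Classical

universe u v

namespace Data

variable {G : Type u} [Group G] [Finite G] {P : Type v} [Group P] (S : Data G P)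

theorem card_Um : Nat.card ↥S.Um = S.lp.D.q := (card_map_of_injective S.B.inj).trans S.lp.K.card_U

theorem card_Ym : Nat.card ↥S.Ym = S.lp.m := (card_map_of_injective S.B.inj).trans S.lp.card_Y

theorem three_coprime : Nat.Coprime 3 (2 * (S.lp.D.q ^ 3 + 1) * S.lp.m) := by
  refine Nat.prime_three.coprime_iff_not_dvd.2 fun h => ?_
  rcases Nat.prime_three.dvd_mul.1 h with h | h
  · rcases Nat.prime_three.dvd_mul.1 h with h | h
    · omega
    · have := (Nat.dvd_add_right (dvd_pow S.lp.three_dvd_q (show 3 ≠ 0 by norm_num))).1 h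
      omega
  · exact S.lp.not_three_dvd_m h

theorem card_G' : Nat.card G = 2 * (S.lp.D.q ^ 3 + 1) * S.lp.m * S.lp.D.q ^ 3 := by
  rw [S.card_G, show S.lp.D.q - 1 = 2 * S.lp.m by have := S.lp.q_eq_m; omega]
  ring

theorem root_le_norm : S.T ≤ normalizer (S.Um : Set G) := by
  refine sup_le (zpowers_le.2 (centralizer_le_normalizer _ (mem_centralizer_iff.2 ?_))) ?_
  · rintro _ ⟨a, -, rfl⟩
    exact S.tc a
  rintro _ ⟨y, hy, rfl⟩
  refine mem_normalizer_iff.2 fun a => ⟨?_, ?_⟩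
  · rintro ⟨b, hb, rfl⟩
    exact ⟨_, S.lp.K.Y_norm y hy b hb, by simp⟩
  · rintro ⟨b, hb, e⟩
    exact ⟨_, S.lp.K.Y_norm y⁻¹ (inv_mem hy) b hb, by rw [map_mul, map_mul, map_inv, e]; group⟩

/-- The fixed points of `t` on a 3-subgroup above the root subgroup. -/
theorem fix_eq {Q : Subgroup G} (hQ : IsPGroup 3 ↥Q) (hUQ : S.Um ≤ Q) {x : G} (hx : x ∈ Q)
    (hxt : x * S.t = S.t * x) : x ∈ S.Um := by
  haveI : Fact (Nat.Prime 3) := ⟨Nat.prime_three⟩
  haveI := S.lp.finiteP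
  set R := Q.comap S.ι with hR
  have hUR : S.lp.K.U ≤ R := fun a ha => hUQ ⟨a, ha, rfl⟩
  have hRp : IsPGroup 3 ↥R := hQ.comap_of_injective S.ι S.B.inj
  obtain ⟨i, hi⟩ := IsPGroup.iff_card.1 hRp
  have hcop : (3 : ℕ).Coprime (4 * S.lp.D.r * S.lp.m) := by
    refine Nat.prime_three.coprime_iff_not_dvd.2 fun h => ?_
    rcases Nat.prime_three.dvd_mul.1 h with h | h
    · rcases Nat.prime_three.dvd_mul.1 h with h | h
      · omega
      · exact S.lp.not_three_dvd_r h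
    · exact S.lp.not_three_dvd_m h
  have hRle : Nat.card ↥R ≤ Nat.card ↥S.lp.K.U := by
    rw [S.lp.K.card_U, hi]
    refine Nat.le_of_dvd (by have := S.lp.q_ge; omega) ((hcop.pow_left i).dvd_of_dvd_mul_left ?_)
    rw [← S.lp.card_P, ← hi]
    exact card_subgroup_dvd_card R
  obtain ⟨j, hj⟩ := hQ ⟨x, hx⟩
  have hj' : x ^ 3 ^ j = 1 := congrArg Subtype.val hj
  obtain ⟨k, hk, -⟩ := S.odd_mem ((by decide : Odd 3).pow.of_dvd_nat (orderOf_dvd_of_pow_eq_one hj')) hxt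
  refine ⟨k, ?_, hk.symm⟩
  rw [eq_of_le_of_card_ge hUR hRle]
  show S.ι k ∈ Q
  rwa [← hk]

/-- What normalises such a subgroup inside the centraliser of `t`. -/
theorem norm_cent {Q : Subgroup G} (hQ : IsPGroup 3 ↥Q) (hUQ : S.Um ≤ Q) {x : G}
    (hx : x ∈ normalizer (Q : Set G)) (hxt : x * S.t = S.t * x) :
    ∃ a ∈ S.lp.K.U, ∃ y ∈ S.lp.K.Y, x = S.ι (a * y) ∨ x = S.t * S.ι (a * y) := by
  obtain ⟨k, hk⟩ := S.B.cover x hxt
  have hconjι : ∀ z, x * S.ι z * x⁻¹ = S.ι (k * z * k⁻¹) := by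
    intro z
    rw [map_mul, map_mul, map_inv]
    rcases hk with e | e <;> rw [e]
    calc S.t * S.ι k * S.ι z * (S.t * S.ι k)⁻¹ = S.t * (S.ι k * S.ι z * (S.ι k)⁻¹) * S.t⁻¹ := by group
      _ = _ := by rw [← map_inv, ← map_mul, ← map_mul, ← S.tc, mul_inv_cancel_right]
  have hkn : k ∈ normalizer (S.lp.K.U : Set P) := by
    haveI := S.lp.finiteP
    have hsub : S.lp.K.U.map (MulAut.conj k).toMonoidHom ≤ S.lp.K.U := by
      rintro _ ⟨z, hz, rfl⟩
      have h1 : S.ι (k * z * k⁻¹) ∈ Q := by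
        rw [← hconjι]
        exact (mem_normalizer_iff.1 hx _).1 (hUQ ⟨z, hz, rfl⟩)
      obtain ⟨b, hb, hbz⟩ := S.fix_eq hQ hUQ h1 (S.tc _)
      show k * z * k⁻¹ ∈ S.lp.K.U
      rwa [← S.B.inj hbz]
    have heq : S.lp.K.U.map (MulAut.conj k).toMonoidHom = S.lp.K.U :=
      eq_of_le_of_card_ge hsub (le_of_eq (card_map_of_injective (MulAut.conj k).injective).symm)
    refine mem_normalizer_iff.2 fun z => ⟨fun hz => hsub ⟨z, hz, rfl⟩, fun hz => ?_⟩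
    rw [← heq] at hz
    obtain ⟨b, hb, e⟩ := hz
    change k * b * k⁻¹ = k * z * k⁻¹ at e
    rwa [mul_left_cancel (mul_right_cancel e)] at hb
  obtain ⟨a, ha, y, hy, rfl⟩ := S.lp.norm_root hkn
  exact ⟨a, ha, y, hy, hk⟩

/-- Inside a subgroup of odd order, what centralises `t` and normalises the 3-subgroup. -/
theorem norm_cent_odd {Q K : Subgroup G} (hQ : IsPGroup 3 ↥Q) (hUQ : S.Um ≤ Q)
    (hKodd : Odd (Nat.card ↥K)) {x : G} (hxK : x ∈ K)
    (hx : x ∈ normalizer (Q : Set G)) (hxt : x * S.t = S.t * x) :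
    ∃ a ∈ S.lp.K.U, ∃ y ∈ S.lp.K.Y, x = S.ι (a * y) := by
  obtain ⟨a, ha, y, hy, h | h⟩ := S.norm_cent hQ hUQ hx hxt
  · exact ⟨a, ha, y, hy, h⟩
  · exfalso
    have hodd : Odd (orderOf x) := hKodd.of_dvd_nat (orderOf_dvd_of_pow_eq_one (congrArg Subtype.val
      (pow_card_eq_one' (x := (⟨x, hxK⟩ : ↥K)))))
    obtain ⟨k, hk, -⟩ := S.odd_mem hodd hxt
    rw [hk] at h
    refine S.B.t_not (k * (a * y)⁻¹) ?_
    rw [map_mul, map_inv, h]; group

/-- A maximal 3-subgroup above the root subgroup that is normalised by the torus is a Sylow subgroup. -/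
theorem exists_sylow :
    ∃ Q : Subgroup G, Nat.card ↥Q = S.lp.D.q ^ 3 ∧ IsPGroup 3 ↥Q ∧ S.Um ≤ Q ∧
      S.T ≤ normalizer (Q : Set G) := by
  haveI : Fact (Nat.Prime 3) := ⟨Nat.prime_three⟩
  haveI := S.lp.finiteP
  have hUp : IsPGroup 3 ↥S.Um := IsPGroup.of_card (n := S.lp.e) (S.card_Um.trans S.lp.hqe)
  obtain ⟨Q, hUQ0, hQmax⟩ := (Set.toFinite {Q : Subgroup G | IsPGroup 3 ↥Q ∧ S.Um ≤ Q ∧
    S.T ≤ normalizer (Q : Set G)}).exists_le_maximal (a := S.Um) ⟨hUp, le_rfl, S.root_le_norm⟩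
  obtain ⟨hQ, hUQ, hTQ⟩ := hQmax.1
  refine ⟨Q, ?_, hQ, hUQ, hTQ⟩
  obtain ⟨n, hn⟩ := IsPGroup.iff_card.1 hQ
  have hq3 : S.lp.D.q ^ 3 = 3 ^ (3 * S.lp.e) := by rw [S.lp.hqe, ← pow_mul, mul_comm]
  have hnle : n ≤ 3 * S.lp.e := by
    refine (Nat.pow_dvd_pow_iff_le_right (show 1 < 3 by norm_num)).1 ?_
    rw [← hq3]
    refine (S.three_coprime.pow_left n).dvd_of_dvd_mul_left ?_
    rw [← S.card_G', ← hn]
    exact card_subgroup_dvd_card Q
  rw [hn, hq3]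
  rcases Nat.eq_or_lt_of_le hnle with e | hlt
  · rw [e]
  exfalso
  -- a larger 3-subgroup normalises it
  set Nrm := normalizer (Q : Set G) with hNrm
  have hbig : 3 ^ (n + 1) ∣ Nat.card ↥Nrm := by
    have hd : 3 ^ (3 * S.lp.e) ∣ Nat.card G := by
      rw [S.card_G', ← hq3]; exact Dvd.intro_left _ rfl
    exact Sylow.prime_pow_dvd_card_normalizer ((pow_dvd_pow 3 (show n + 1 ≤ 3 * S.lp.e by omega)).trans hd) hn
  have htN : S.t ∈ Nrm := hTQ (mem_sup_left (mem_zpowers _))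
  obtain ⟨K, hKN, hKodd, hK2, hKconj, hKmem⟩ := exists_odd_two S.amb S.B.ht htN (fun x hx hx2 hxt => by
    obtain ⟨a, ha, y, hy, h⟩ := S.norm_cent hQ hUQ hx hxt
    have hodd : Odd (orderOf (a * y)) := by
      have hY : (a * y) ^ S.lp.m ∈ S.lp.K.U := by
        have hYn : y ∈ normalizer (S.lp.K.U : Set P) := mem_normalizer_iff.2 fun b =>
          ⟨S.lp.K.Y_norm y hy b, fun h => by
            have h' := S.lp.K.Y_norm y⁻¹ (inv_mem hy) _ h
            rwa [show y⁻¹ * (y * b * y⁻¹) * (y⁻¹)⁻¹ = b by group] at h'⟩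
        have : ∀ k : ℕ, ∃ b ∈ S.lp.K.U, (a * y) ^ k = b * y ^ k := by
          intro k
          induction k with
          | zero => exact ⟨1, one_mem _, by simp⟩
          | succ k ih =>
            obtain ⟨b, hb, e⟩ := ih
            refine ⟨b * (y ^ k * a * (y ^ k)⁻¹), mul_mem hb ((mem_normalizer_iff.1 (pow_mem hYn k) a).1 ha), ?_⟩
            rw [pow_succ (a * y), e, pow_succ y]; group
        obtain ⟨b, hb, e⟩ := this S.lp.m
        rwa [e, S.lp.pow_m hy, mul_one]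
      refine Odd.of_dvd_nat (S.lp.m_odd.mul (S.lp.D.q_odd)) (orderOf_dvd_of_pow_eq_one ?_)
      rw [pow_mul]
      have h := pow_card_eq_one' (x := (⟨_, hY⟩ : ↥S.lp.K.U))
      rw [S.lp.K.card_U] at h
      exact congrArg Subtype.val h
    have hz : a * y = 1 := by
      refine orderOf_eq_one_iff.1 ?_
      have h2 : (a * y) ^ 2 = 1 := by
        refine S.B.inj ?_
        rw [map_pow, map_one, pow_two]
        rcases h with e | e <;> rw [e] at hx2
        · exact hx2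
        · rwa [show S.t * S.ι (a * y) * (S.t * S.ι (a * y)) = S.t * (S.ι (a * y) * S.t) * S.ι (a * y) by group,
            S.tc, ← mul_assoc, S.tt, one_mul] at hx2
      rcases (Nat.dvd_prime Nat.prime_two).1 (orderOf_dvd_of_pow_eq_one h2) with h' | h'
      · exact h'
      · rw [h'] at hodd; exact absurd hodd (by decide)
    rw [hz, map_one, mul_one] at h
    exact h)
  -- the torus and the subgroup lie in the odd part
  have hYm : ∀ x ∈ S.Ym, x ^ S.lp.m = 1 := by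
    rintro _ ⟨y, hy, rfl⟩; rw [← map_pow, S.lp.pow_m hy, map_one]
  have hYK : S.Ym ≤ K := fun x hx => hKmem x (hTQ (mem_sup_right hx))
    (S.lp.m_odd.of_dvd_nat (orderOf_dvd_of_pow_eq_one (hYm x hx)))
  have hQpow : ∀ x ∈ Q, x ^ 3 ^ n = 1 := fun x hx => by
    rw [← hn]; exact congrArg Subtype.val (pow_card_eq_one' (x := (⟨x, hx⟩ : ↥Q)))
  have hQK : Q ≤ K := fun x hx => hKmem x (le_normalizer hx)
    ((by decide : Odd 3).pow.of_dvd_nat (orderOf_dvd_of_pow_eq_one (hQpow x hx)))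
  have hY1 : ∀ x ∈ S.Ym, x * S.t = S.t * x := by
    rintro _ ⟨y, -, rfl⟩; exact S.tc y
  set H := S.Ym.subgroupOf K with hH
  have hmal : ∀ g : G, g ∈ K → g ∉ S.Ym → ∀ x ∈ S.Ym, g * x * g⁻¹ ∈ S.Ym → x = 1 := by
    rintro g hg hgY _ ⟨y, hy, rfl⟩ hgx
    by_contra hx1
    have hy1 : y ≠ 1 := fun e => hx1 (by rw [e, map_one])
    obtain ⟨a, ha, y2, hy2, rfl⟩ := S.norm_cent_odd hQ hUQ hKodd hg (hKN hg) (S.norm_y hy hy1 hgx)
    obtain ⟨y3, hy3, e⟩ := hgx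
    rw [← map_inv, ← map_mul, ← map_mul] at e
    have e' := S.B.inj e
    rw [show a * y2 * y * (a * y2)⁻¹ = a * (y2 * y * y2⁻¹) * a⁻¹ by group,
      S.lp.K.Y_comm y2 hy2 y hy, mul_inv_cancel_right] at e'
    have hc : y3 * y⁻¹ ∈ S.lp.K.U ⊓ S.lp.K.Y := by
      refine ⟨?_, S.lp.K.Y.mul_mem hy3 (S.lp.K.Y.inv_mem hy)⟩
      rw [e', show a * y * a⁻¹ * y⁻¹ = a * (y * a⁻¹ * y⁻¹) by group]
      exact mul_mem ha (S.lp.K.Y_norm y hy _ (inv_mem ha))
    rw [S.lp.U_inf_Y, mem_bot, mul_inv_eq_one] at hc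
    rw [hc, eq_comm, mul_inv_eq_iff_eq_mul] at e'
    have haY : a ∈ S.lp.K.U ⊓ S.lp.K.Y := ⟨ha, S.lp.cent_torus hy hy1 e'⟩
    rw [S.lp.U_inf_Y, mem_bot] at haY
    exact hgY ⟨y2, hy2, by rw [haY, one_mul]⟩
  have hF : Cfsg.IsFrobeniusComplement H := by
    refine ⟨fun h => ?_, fun h => ?_, fun g hg => ?_⟩
    · have h1 : Nat.card ↥H = Nat.card ↥S.Ym := Nat.card_congr (subgroupOfEquivOfLe hYK).toEquiv
      rw [h, card_bot, S.card_Ym] at h1
      have := S.lp.m_pos; omega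
    · rw [hH, subgroupOf_eq_top] at h
      have hd := card_dvd_of_le ((hUQ.trans hQK).trans h)
      rw [S.card_Um, S.card_Ym] at hd
      have := Nat.le_of_dvd (by have := S.lp.m_pos; omega) hd
      have := S.lp.q_eq_m; omega
    · refine (eq_bot_iff_forall _).2 fun x hx => ?_
      obtain ⟨hx1, hx2⟩ := hx
      replace hx2 := (Frob.mem_smul_conj_iff g x).1 hx2
      refine Subtype.ext ?_
      refine hmal ((g : G)⁻¹) (inv_mem g.2) ?_ x hx1 ?_
      · intro h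
        refine hg (show (g : G) ∈ S.Ym from ?_)
        rw [← inv_inv (g : G)]
        exact inv_mem h
      · rw [inv_inv]
        exact hx2
  haveI : Fintype ↥K := Fintype.ofFinite _
  obtain ⟨N, hNk, hNn, hNcompl, hNnil⟩ := Grp.frobenius_kernel_spec hF
  set M := N.map K.subtype with hM
  have hMK : M ≤ K := map_subtype_le N
  have hMt : ∀ x ∈ M, S.t * x * S.t⁻¹ ∈ M := by
    rintro _ ⟨z, hz, rfl⟩
    have hzK : S.t * (z : G) * S.t⁻¹ ∈ K := hKconj _ htN _ z.2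
    refine ⟨⟨_, hzK⟩, ?_, rfl⟩
    replace hz : z ∈ (N : Set ↥K) := hz
    rw [hNk, Frob.mem_kernel_iff] at hz
    rw [hNk, Frob.mem_kernel_iff]
    rcases hz with rfl | hz
    · exact Or.inl (Subtype.ext (show S.t * 1 * S.t⁻¹ = 1 by group))
    refine Or.inr fun g hg => ?_
    have hgK : S.t * (g : G) * S.t⁻¹ ∈ K := hKconj _ htN _ g.2
    refine hz ⟨_, hgK⟩ ?_
    have hcalc : (S.t * (g : G) * S.t⁻¹)⁻¹ * (z : G) * (S.t * (g : G) * S.t⁻¹) =
        S.t * ((g : G)⁻¹ * (S.t * (z : G) * S.t⁻¹) * g) * S.t⁻¹ := by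
      rw [S.t_inv]
      calc _ = S.t * ((g : G)⁻¹ * (S.t⁻¹ * (z : G) * S.t) * g) * S.t := by
            rw [_root_.mul_inv_rev, _root_.mul_inv_rev, S.t_inv]; group
        _ = _ := by rw [S.t_inv]
    show (S.t * (g : G) * S.t⁻¹)⁻¹ * (z : G) * (S.t * (g : G) * S.t⁻¹) ∈ S.Ym
    have hgY : (g : G)⁻¹ * (S.t * (z : G) * S.t⁻¹) * g ∈ S.Ym := hg
    rw [hcalc, ← hY1 _ hgY, mul_inv_cancel_right]
    exact hgY
  have hMY : ∀ y ∈ S.Ym, ∀ x ∈ M, y * x * y⁻¹ ∈ M := by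
    rintro y hy _ ⟨z, hz, rfl⟩
    exact ⟨⟨y, hYK hy⟩ * z * ⟨y, hYK hy⟩⁻¹, hNn.conj_mem z hz _, rfl⟩
  have hQM : Q ≤ M := by
    intro x hx
    refine ⟨⟨x, hQK hx⟩, ?_, rfl⟩
    rw [hNk, Frob.mem_kernel_iff]
    refine or_iff_not_imp_left.2 fun hx1 g hg => hx1 ?_
    have h1 : ((g : G)⁻¹ * x * g) ^ S.lp.m = 1 := hYm _ hg
    have h2 : ((g : G)⁻¹ * x * g) ^ 3 ^ n = 1 := by
      rw [show (g : G)⁻¹ * x * g = (g : G)⁻¹ * x * ((g : G)⁻¹)⁻¹ by group, conj_pow, hQpow x hx]; group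
    have h : ((g : G)⁻¹ * x * g) ^ Nat.gcd S.lp.m (3 ^ n) = 1 := pow_gcd_eq_one.2 ⟨h1, h2⟩
    rw [((Nat.prime_three.coprime_iff_not_dvd.2 S.lp.not_three_dvd_m).pow_left n).symm.gcd_eq_one,
      pow_one] at h
    refine Subtype.ext ?_
    show x = 1
    calc x = (g : G) * ((g : G)⁻¹ * x * g) * (g : G)⁻¹ := by group
      _ = 1 := by rw [h]; group
  haveI : Group.IsNilpotent ↥M :=
    (Group.isNilpotent_congr (equivMapOfInjective N K.subtype K.subtype_injective)).1 hNnil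
  let T' : Sylow 3 ↥M := default
  haveI hTn : (T' : Subgroup ↥M).Normal := by
    have h := ((Group.isNilpotent_of_finite_tfae (G := ↥M)).out 0 3).1 (show Group.IsNilpotent ↥M from inferInstance)
    exact h 3 inferInstance T'
  haveI : Subsingleton (Sylow 3 ↥M) := by
    have := T'.unique_of_normal hTn
    exact @Unique.instSubsingleton _ this
  have hTall : ∀ x : ↥M, (∃ j : ℕ, x ^ 3 ^ j = 1) → x ∈ (T' : Subgroup ↥M) := by
    rintro x ⟨j, hj⟩
    obtain ⟨i, -, hi⟩ := (Nat.dvd_prime_pow Nat.prime_three).1 (orderOf_dvd_of_pow_eq_one hj)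
    obtain ⟨T'', hT''⟩ := (IsPGroup.of_card (n := i) (by rw [Nat.card_zpowers, hi]) :
      IsPGroup 3 ↥(zpowers x)).exists_le_sylow
    rw [Subsingleton.elim T' T'']
    exact hT'' (mem_zpowers x)
  set Q' := (T' : Subgroup ↥M).map M.subtype with hQ'
  have hQ'mem : ∀ x, x ∈ Q' ↔ x ∈ M ∧ ∃ j : ℕ, x ^ 3 ^ j = 1 := by
    intro x
    constructor
    · rintro ⟨z, hz, rfl⟩
      obtain ⟨j, hj⟩ := T'.isPGroup' ⟨z, hz⟩
      exact ⟨z.2, j, congrArg (fun w : ↥(T' : Subgroup ↥M) => ((w : ↥M) : G)) hj⟩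
    · rintro ⟨hxM, j, hj⟩
      exact ⟨⟨x, hxM⟩, hTall _ ⟨j, Subtype.ext (by simpa using hj)⟩, rfl⟩
  have hQQ' : Q ≤ Q' := fun x hx => (hQ'mem x).2 ⟨hQM hx, n, hQpow x hx⟩
  have hinvar : ∀ g : G, (∀ x ∈ M, g * x * g⁻¹ ∈ M) → ∀ x ∈ Q', g * x * g⁻¹ ∈ Q' := by
    intro g hg x hx
    obtain ⟨hxM, j, hj⟩ := (hQ'mem x).1 hx
    exact (hQ'mem _).2 ⟨hg x hxM, j, by rw [conj_pow, hj]; group⟩
  have hTQ' : S.T ≤ normalizer (Q' : Set G) := by
    have hnorm : ∀ g : G, (∀ x ∈ M, g * x * g⁻¹ ∈ M) → (∀ x ∈ M, g⁻¹ * x * (g⁻¹)⁻¹ ∈ M) →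
        g ∈ normalizer (Q' : Set G) := by
      intro g h1 h2
      refine mem_normalizer_iff.2 fun x => ⟨hinvar g h1 x, fun h => ?_⟩
      have h' := hinvar g⁻¹ h2 _ h
      rwa [show g⁻¹ * (g * x * g⁻¹) * (g⁻¹)⁻¹ = x by group] at h'
    refine sup_le (zpowers_le.2 (hnorm _ hMt ?_)) fun y hy => hnorm y (hMY y hy) (hMY y⁻¹ (inv_mem hy))
    rw [S.t_inv]; exact hMt
  have hcard : 3 ^ (n + 1) ≤ Nat.card ↥Q' := by
    rw [hQ', card_map_of_injective M.subtype_injective]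
    refine Nat.le_of_dvd Nat.card_pos (T'.pow_dvd_card_of_pow_dvd_card ?_)
    have hNM : Nat.card ↥M * S.lp.m = Nat.card ↥K := by
      rw [hM, card_map_of_injective K.subtype_injective, ← S.card_Ym,
        ← Nat.card_congr (subgroupOfEquivOfLe hYK).toEquiv]
      exact hNcompl.card_mul
    have hcop : (3 : ℕ).Coprime (2 * S.lp.m) := Nat.prime_three.coprime_iff_not_dvd.2 fun h => by
      rcases Nat.prime_three.dvd_mul.1 h with h | h
      · omega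
      · exact S.lp.not_three_dvd_m h
    refine (hcop.pow_left (n + 1)).dvd_of_dvd_mul_right ?_
    rw [show Nat.card ↥M * (2 * S.lp.m) = Nat.card ↥M * S.lp.m * 2 by ring, hNM, hK2]
    exact hbig
  have hQ'p : IsPGroup 3 ↥Q' := T'.isPGroup'.map _
  have := hQmax.2 ⟨hQ'p, hUQ.trans hQQ', hTQ'⟩ hQQ'
  rw [le_antisymm hQQ' this] at hn
  rw [hn] at hcard
  exact absurd hcard (not_le.2 (Nat.pow_lt_pow_right (by norm_num) (by omega)))

end Data

end Cfsg.Agent.Invol.AbelTwo.ReeTrans
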