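import Cfsg.Agent.Lib.Invol.AbelTwo.ReeTrans.Psl
import Cfsg.Agent.Lib.Invol.JankoWard.LocalBase
import Cfsg.Agent.Lib.Invol.JankoWard.Interface
import Cfsg.Agent.Lib.Grp.Coprime
import Mathlib.GroupTheory.FixedPointFree
import Mathlib.GroupTheory.Transfer

/-!
# A group of Ree type: the centraliser of a split torus element is the torus
-/

set_option autoImplicit false
set_option linter.unusedSectionVars false
set_option linter.style.haveILetI false

namespace Cfsg.Agent.Invol.AbelTwo.ReeTrans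

open Subgroup
open scoped _root_.Classical

universe u v

/-- The data of a group of Ree type. -/
structure Data (G : Type u) [Group G] (P : Type v) [Group P] where
  /-- the second factor -/
  lp : LPack P
  /-- the involution -/
  B : JankoWard.Base G P
  hBD : B.D = lp.D
  /-- fusion -/
  loc : JankoWard.Locals B
  amb : JankoWard.Amb G
  card_G : Nat.card G = lp.D.q ^ 3 * (lp.D.q ^ 3 + 1) * (lp.D.q - 1)

/-- A subgroup in which a given involution is the only involution commuting with it has a normal subgroup of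
index two and odd order. -/
theorem exists_odd_two {G : Type u} [Group G] [Finite G] (hA : JankoWard.Amb G) {t : G} (ht : orderOf t = 2)
    {X : Subgroup G} (htX : t ∈ X) (h : ∀ x ∈ X, x * x = 1 → x * t = t * x → x = 1 ∨ x = t) :
    ∃ K : Subgroup G, K ≤ X ∧ Odd (Nat.card ↥K) ∧ Nat.card ↥K * 2 = Nat.card ↥X ∧
      (∀ g ∈ X, ∀ k ∈ K, g * k * g⁻¹ ∈ K) ∧ ∀ x ∈ X, Odd (orderOf x) → x ∈ K := by
  haveI : Fact (Nat.Prime 2) := ⟨Nat.prime_two⟩
  obtain ⟨T, hT⟩ := (IsPGroup.of_card (n := 1) (by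
    rw [Nat.card_zpowers, orderOf_mk, ht, pow_one]) :
      IsPGroup 2 ↥(zpowers (⟨t, htX⟩ : ↥X))).exists_le_sylow
  have hsq : ∀ x ∈ (T : Subgroup ↥X), (x : G) * x = 1 := by
    intro x hx
    obtain ⟨j, hj⟩ := T.isPGroup' ⟨x, hx⟩
    exact hA.sq2 _ ⟨j, congrArg (fun y : ↥(T : Subgroup ↥X) => ((y : ↥X) : G)) hj⟩
  have hTel : ∀ x ∈ (T : Subgroup ↥X), x = 1 ∨ x = ⟨t, htX⟩ := by
    intro x hx
    have hxt := hsq _ (mul_mem hx (hT (mem_zpowers _)))
    have hx2 := hsq _ hx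
    have htt : t * t = 1 := by rw [← pow_two, ← ht, pow_orderOf_eq_one]
    change (x : G) * t * ((x : G) * t) = 1 at hxt
    have hc : (x : G) * t = t * x := by
      calc (x : G) * t = ((x : G) * t)⁻¹ := (inv_eq_of_mul_eq_one_right hxt).symm
        _ = t⁻¹ * (x : G)⁻¹ := _root_.mul_inv_rev _ _
        _ = _ := by rw [inv_eq_of_mul_eq_one_right hx2, inv_eq_of_mul_eq_one_right htt]
    rcases h _ x.2 hx2 hc with e | e
    · exact Or.inl (Subtype.ext e)
    · exact Or.inr (Subtype.ext e)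
  have hTt : (T : Subgroup ↥X) = zpowers ⟨t, htX⟩ := by
    refine le_antisymm (fun x hx => ?_) hT
    rcases hTel x hx with rfl | rfl
    exacts [one_mem _, mem_zpowers _]
  have hburn : normalizer ((T : Subgroup ↥X) : Set ↥X) ≤ centralizer ((T : Subgroup ↥X) : Set ↥X) := by
    intro n hn
    refine mem_centralizer_iff.2 fun x hx => ?_
    have h1 := (mem_normalizer_iff.1 hn x).1 hx
    rcases hTel _ hx with rfl | rfl
    · rw [one_mul, mul_one]
    rcases hTel _ h1 with h | h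
    · rw [conj_eq_one_iff] at h; rw [h, one_mul, mul_one]
    · exact (mul_inv_eq_iff_eq_mul.1 h).symm
  set K := (MonoidHom.transferSylow T hburn).ker with hK
  have hcompl : IsComplement' K (T : Subgroup ↥X) := MonoidHom.ker_transferSylow_isComplement' T hburn
  have hKT : Nat.card ↥K * 2 = Nat.card ↥X := by
    have h := hcompl.card_mul
    rwa [show Nat.card ↥(T : Subgroup ↥X) = 2 by rw [hTt, Nat.card_zpowers, orderOf_mk, ht]] at h
  have hKodd : Odd (Nat.card ↥K) := by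
    rw [Nat.odd_iff, ← hcompl.index_eq_card]
    have := T.not_dvd_index' (by rw [Subgroup.relIndex]; exact index_ne_zero_of_finite)
    omega
  have hidx : K.index = 2 := by
    have h := K.card_mul_index
    rw [← hKT] at h
    exact Nat.eq_of_mul_eq_mul_left Nat.card_pos h
  have hKN : K.Normal := by rw [hK]; infer_instance
  clear_value K
  refine ⟨K.map X.subtype, map_subtype_le K, ?_, ?_, ?_, ?_⟩
  · rwa [card_map_of_injective X.subtype_injective]
  · rwa [card_map_of_injective X.subtype_injective]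
  · rintro g hg _ ⟨k, hk, rfl⟩
    exact ⟨⟨g, hg⟩ * k * ⟨g, hg⟩⁻¹, hKN.conj_mem k hk _, rfl⟩
  · intro x hx hodd
    refine ⟨⟨x, hx⟩, ?_, rfl⟩
    obtain ⟨d, hd⟩ := hodd
    have h2 : (⟨x, hx⟩ : ↥X) ^ 2 ∈ K := by
      have h := pow_index_mem K (⟨x, hx⟩ : ↥X)
      rwa [hidx] at h
    have hx' : (⟨x, hx⟩ : ↥X) = ((⟨x, hx⟩ : ↥X) ^ 2) ^ (d + 1) := by
      refine Subtype.ext ?_
      show x = (x ^ 2) ^ (d + 1)
      rw [← pow_mul, show 2 * (d + 1) = orderOf x + 1 by omega, pow_succ, pow_orderOf_eq_one, one_mul]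
    rw [hx']
    exact pow_mem h2 _

/-- An involution without fixed points inverts a subgroup of odd order. -/
theorem inverts {G : Type u} [Group G] [Finite G] {R : Subgroup G} {s : G} (hs : s * s = 1)
    (hnorm : ∀ x ∈ R, s * x * s⁻¹ ∈ R) (hfix : ∀ x ∈ R, x * s = s * x → x = 1) :
    ∀ x ∈ R, s * x * s⁻¹ = x⁻¹ := by
  let σ : ↥R →* ↥R := ((MulAut.conj s).toMonoidHom.comp R.subtype).codRestrict R fun x => hnorm x x.2
  have hinv : Function.Involutive σ := fun x => Subtype.ext (by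
    show s * (s * (x : G) * s⁻¹) * s⁻¹ = x
    calc _ = s * s * (x : G) * (s * s)⁻¹ := by group
      _ = _ := by rw [hs]; group)
  have hfpf : MonoidHom.FixedPointFree σ := fun x hx => Subtype.ext (hfix x x.2 (by
    have h : s * (x : G) * s⁻¹ = x := congrArg Subtype.val hx
    exact (mul_inv_eq_iff_eq_mul.1 h).symm))
  intro x hx
  exact congrArg Subtype.val (congrFun (hfpf.coe_eq_inv_of_involutive hinv) ⟨x, hx⟩)

namespace Data

variable {G : Type u} [Group G] {P : Type v} [Group P] (S : Data G P)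

/-- The involution. -/
abbrev t : G := S.B.t

/-- The embedding. -/
abbrev ι : P →* G := S.B.ι

/-- The Weyl element. -/
def w : G := S.ι S.lp.K.w

/-- The root subgroup. -/
def Um : Subgroup G := S.lp.K.U.map S.ι

/-- The split torus. -/
def Ym : Subgroup G := S.lp.K.Y.map S.ι

/-- The torus with the involution. -/
def T : Subgroup G := zpowers S.t ⊔ S.Ym

theorem tt : S.t * S.t = 1 := by rw [← pow_two, ← S.B.ht, pow_orderOf_eq_one]

theorem t_inv : S.t⁻¹ = S.t := inv_eq_of_mul_eq_one_right S.tt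

theorem tc (k : P) : S.ι k * S.t = S.t * S.ι k := S.B.tc k

theorem ww : S.w * S.w = 1 := by rw [w, ← map_mul, S.lp.K.w2, map_one]

theorem w_inv : S.w⁻¹ = S.w := inv_eq_of_mul_eq_one_right S.ww

theorem w_ne : S.w ≠ 1 := fun h => S.lp.K.w1 (S.B.inj (h.trans (map_one S.ι).symm))

theorem tw : S.t * S.w = S.w * S.t := (S.tc _).symm

theorem w_y {y : P} (hy : y ∈ S.lp.K.Y) : S.w * S.ι y * S.w⁻¹ = (S.ι y)⁻¹ := by
  rw [w, ← map_inv, ← map_inv, ← map_mul, ← map_mul, S.lp.K.w_Y y hy]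

theorem loc_cent {y : P} (hy : y ∈ S.lp.D.Y) (hy1 : y ≠ 1) {x : G} (hx : x * S.ι y = S.ι y * x) :
    x ^ (2 * S.lp.D.r) = 1 := by
  have hD := S.hBD
  have hy' : y ∈ S.B.D.Y := by rw [hD]; exact hy
  obtain ⟨z, hz, h⟩ := S.loc.cent_y y hy' hy1 x hx
  rw [hD] at hz h
  have hzr : S.ι z ^ S.lp.D.r = 1 := by rw [← map_pow, S.lp.D.pow_r hz, map_one]
  have hu : Commute (S.ι S.lp.D.u) (S.ι z) := by
    show S.ι S.lp.D.u * S.ι z = S.ι z * S.ι S.lp.D.u
    rw [← map_mul, ← map_mul, S.lp.D.u_Y z hz]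
  have ht : Commute S.t (S.ι z) := (S.tc z).symm
  have hu2 : S.ι S.lp.D.u ^ 2 = 1 := by rw [pow_two, ← map_mul, S.lp.D.u2, map_one]
  have ht2 : S.t ^ 2 = 1 := by rw [pow_two, S.tt]
  have hz2 : S.ι z ^ (2 * S.lp.D.r) = 1 := by rw [mul_comm, pow_mul, hzr, one_pow]
  rcases h with rfl | rfl | rfl | rfl
  · exact hz2
  · rw [ht.mul_pow, hz2, mul_one, pow_mul, ht2, one_pow]
  · rw [hu.mul_pow, hz2, mul_one, pow_mul, hu2, one_pow]
  · have htu : Commute S.t (S.ι S.lp.D.u) := (S.tc _).symm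
    rw [(ht.mul_left hu).mul_pow, hz2, mul_one, htu.mul_pow, pow_mul, ht2, one_pow, pow_mul, hu2, one_pow,
      mul_one]

theorem mem_T {x : G} (hx : x ∈ S.T) : ∃ y ∈ S.lp.K.Y, x = S.ι y ∨ x = S.t * S.ι y := by
  have hn : S.Ym ≤ normalizer (zpowers S.t : Set G) := by
    rintro _ ⟨y, -, rfl⟩
    exact centralizer_le_normalizer _ (mem_centralizer_iff.2 fun d hd => by
      obtain ⟨i, rfl⟩ := mem_zpowers_iff.1 hd
      exact ((show Commute (S.ι y) S.t from S.tc y).zpow_right i).eq.symm)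
  rw [← SetLike.mem_coe, T, coe_mul_of_right_le_normalizer_left _ _ hn] at hx
  obtain ⟨d, hd, _, ⟨y, hy, rfl⟩, rfl⟩ := hx
  obtain ⟨i, rfl⟩ := mem_zpowers_iff.1 hd
  refine ⟨y, hy, ?_⟩
  show S.t ^ i * S.ι y = _ ∨ S.t ^ i * S.ι y = _
  rw [← zpow_mod_orderOf, S.B.ht]
  rcases (show i % ((2 : ℕ) : ℤ) = 0 ∨ i % ((2 : ℕ) : ℤ) = 1 by omega) with h | h
    <;> simp only [Nat.cast_ofNat] at h ⊢ <;> simp [h]

theorem card_T [Finite G] : Nat.card ↥S.T = S.lp.D.q - 1 := by
  haveI := S.lp.finiteP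
  have hdis : Disjoint (zpowers S.t) S.Ym := by
    rw [disjoint_iff]
    refine Grp.inf_eq_bot_of_coprime ?_
    rw [Nat.card_zpowers, S.B.ht, Ym, card_map_of_injective S.B.inj, S.lp.card_Y]
    exact (Nat.prime_two.coprime_iff_not_dvd).2 (by
      rw [← even_iff_two_dvd]; exact Nat.not_even_iff_odd.2 S.lp.m_odd)
  have hn : S.Ym ≤ normalizer (zpowers S.t : Set G) := by
    rintro _ ⟨y, -, rfl⟩
    exact centralizer_le_normalizer _ (mem_centralizer_iff.2 fun d hd => by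
      obtain ⟨i, rfl⟩ := mem_zpowers_iff.1 hd
      exact ((show Commute (S.ι y) S.t from S.tc y).zpow_right i).eq.symm)
  have h := Grp.card_sup_mul_card_inf (H := S.Ym) (N := zpowers S.t) hn
  rw [inf_comm, disjoint_iff.1 hdis, card_bot, mul_one, Nat.card_zpowers, S.B.ht, Ym,
    card_map_of_injective S.B.inj, S.lp.card_Y] at h
  rw [T, sup_comm, Ym, h]
  have := S.lp.q_eq_m
  omega

variable [Finite G]

theorem odd_mem {c : G} (hodd : Odd (orderOf c)) (hc : c * S.t = S.t * c) :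
    ∃ k, c = S.ι k ∧ orderOf k = orderOf c := by
  obtain ⟨k, rfl | rfl⟩ := S.B.cover c hc
  · exact ⟨k, rfl, (orderOf_injective S.ι S.B.inj k).symm⟩
  · exfalso
    have hcomm : Commute S.t (S.ι k) := (S.tc k).symm
    have h := pow_orderOf_eq_one (S.t * S.ι k)
    obtain ⟨d, hd⟩ := hodd
    rw [hd, hcomm.mul_pow, pow_succ S.t, pow_mul, pow_two, S.tt, one_pow, one_mul, ← map_pow] at h
    exact S.B.t_not (k ^ (2 * d + 1))⁻¹ (by rw [map_inv, ← eq_inv_of_mul_eq_one_left h])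

theorem conj_t {s : G} (hs : s * s = 1) (hs1 : s ≠ 1) : ∃ g : G, g * S.t * g⁻¹ = s :=
  isConj_iff.1 (S.loc.one_class s (orderOf_eq_prime (by rw [pow_two, hs]) hs1))

/-- No element of order three is inverted by `t` and centralised by a commuting involution. -/
theorem no_three {d s : G} (hd : orderOf d = 3) (hs : s * s = 1) (hs1 : s ≠ 1)
    (hts : S.t * s = s * S.t) (hds : d * s = s * d) (hinv : S.t * d * S.t⁻¹ = d⁻¹) : False := by
  obtain ⟨g, hg⟩ := S.conj_t hs hs1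
  have hback : ∀ x : G, x * s = s * x → g⁻¹ * x * g * S.t = S.t * (g⁻¹ * x * g) := by
    intro x hx
    calc g⁻¹ * x * g * S.t = g⁻¹ * (x * (g * S.t * g⁻¹)) * g := by group
      _ = g⁻¹ * ((g * S.t * g⁻¹) * x) * g := by rw [hg, hx]
      _ = _ := by group
  have hord : orderOf (g⁻¹ * d * g) = 3 := by
    have h := orderOf_injective (MulAut.conj g⁻¹).toMonoidHom (MulAut.conj g⁻¹).injective d
    rw [show (MulAut.conj g⁻¹).toMonoidHom d = g⁻¹ * d * g by simp] at h
    rw [h, hd]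
  obtain ⟨k, hk, hok⟩ := S.odd_mem (by rw [hord]; decide) (hback d hds)
  rw [hord] at hok
  have hk1 : k ≠ 1 := fun e => by rw [e, orderOf_one] at hok; omega
  obtain ⟨a, ha⟩ := S.B.cover _ (hback S.t hts)
  have hk3 : k ^ 3 = 1 := by rw [← hok, pow_orderOf_eq_one]
  have hc : S.ι (a * k * a⁻¹) = S.ι k⁻¹ := by
    have h1 : g⁻¹ * S.t * g * S.ι k * (g⁻¹ * S.t * g)⁻¹ = (S.ι k)⁻¹ := by
      rw [← hk]
      calc _ = g⁻¹ * (S.t * d * S.t⁻¹) * g := by group
        _ = _ := by rw [hinv]; group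
    rw [map_inv, ← h1, map_mul, map_mul, map_inv]
    rcases ha with e | e <;> rw [e]
    calc S.ι a * S.ι k * (S.ι a)⁻¹ = S.t * (S.ι a * S.ι k * (S.ι a)⁻¹) * S.t⁻¹ := by
          rw [← map_inv, ← map_mul, ← map_mul, ← S.tc, mul_inv_cancel_right]
      _ = _ := by group
  have ha2 : a ^ 2 ^ 1 = 1 := by
    refine S.B.inj ?_
    have h2 : g⁻¹ * S.t * g * (g⁻¹ * S.t * g) = 1 := by
      calc g⁻¹ * S.t * g * (g⁻¹ * S.t * g) = g⁻¹ * (S.t * S.t) * g := by group
        _ = 1 := by rw [S.tt]; group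
    rw [pow_one, pow_two, map_mul, map_one]
    rcases ha with e | e <;> rw [e] at h2
    · exact h2
    · rw [← h2, mul_assoc S.t, ← mul_assoc (S.ι a) S.t, S.tc a, ← mul_assoc, ← mul_assoc, S.tt, one_mul]
  have ha1 := S.lp.rigid k hk3 hk1 a 1 ha2 (Or.inr (S.B.inj hc))
  subst ha1
  have h3' : k = k⁻¹ := by simpa using S.B.inj hc
  refine hk1 ?_
  rw [show (3 : ℕ) = 2 + 1 from rfl, pow_succ, pow_two] at hk3
  rwa [show k * k = 1 from mul_eq_one_iff_eq_inv.2 h3', one_mul] at hk3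

/-- In the centraliser of a conjugate involution, an element of prime order commuting with a split torus
element and inverted by a commuting involution is trivial. -/
theorem no_prime {y : P} (hy : y ∈ S.lp.K.Y) (hy1 : y ≠ 1) {d s : G} {r0 : ℕ} (hr0 : r0.Prime)
    (hm : ¬ r0 ∣ S.lp.m) (hd : orderOf d = r0) (hr2 : r0 ≠ 2) (hs : s * s = 1) (hs1 : s ≠ 1)
    (hts : S.t * s = s * S.t) (hds : d * s = s * d) (hinv : S.t * d * S.t⁻¹ = d⁻¹)
    (hdy : d * S.ι y = S.ι y * d) : False := by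
  obtain ⟨g, hg⟩ := S.conj_t hs hs1
  have hback : ∀ x : G, x * s = s * x → g⁻¹ * x * g * S.t = S.t * (g⁻¹ * x * g) := by
    intro x hx
    calc g⁻¹ * x * g * S.t = g⁻¹ * (x * (g * S.t * g⁻¹)) * g := by group
      _ = g⁻¹ * ((g * S.t * g⁻¹) * x) * g := by rw [hg, hx]
      _ = _ := by group
  have hord : orderOf (g⁻¹ * d * g) = r0 := by
    have h := orderOf_injective (MulAut.conj g⁻¹).toMonoidHom (MulAut.conj g⁻¹).injective d
    rw [show (MulAut.conj g⁻¹).toMonoidHom d = g⁻¹ * d * g by simp] at h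
    rw [h, hd]
  obtain ⟨k, hk, hok⟩ := S.odd_mem (by rw [hord]; exact hr0.odd_of_ne_two hr2) (hback d hds)
  rw [hord] at hok
  have hk1 : k ≠ 1 := fun e => by rw [e, orderOf_one] at hok; exact hr0.one_lt.ne hok
  haveI := S.lp.finiteP
  have hdvd : r0 ∣ 4 * S.lp.D.r * S.lp.m * S.lp.D.q := by
    rw [← S.lp.card_P, ← hok]; exact orderOf_dvd_natCard k
  rcases hr0.dvd_mul.1 hdvd with h | h
  · rcases hr0.dvd_mul.1 h with h | h
    · rcases hr0.dvd_mul.1 h with h | h
      · exact hr2 ((Nat.prime_dvd_prime_iff_eq hr0 Nat.prime_two).1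
          (hr0.dvd_of_dvd_pow (show r0 ∣ 2 ^ 2 by simpa using h)))
      · -- the other torus
        obtain ⟨c, hc⟩ := S.lp.conj_into_Y hr0 h hok
        have hc1 : c * k * c⁻¹ ≠ 1 := fun e => hk1 (conj_eq_one_iff.1 e)
        set h' := S.ι c * g⁻¹ with hh'
        have hconjd : h' * d * h'⁻¹ = S.ι (c * k * c⁻¹) := by
          rw [map_mul, map_mul, map_inv, hh', ← hk]; group
        have hcomm : h' * S.ι y * h'⁻¹ * S.ι (c * k * c⁻¹) = S.ι (c * k * c⁻¹) * (h' * S.ι y * h'⁻¹) := by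
          rw [← hconjd]
          calc h' * S.ι y * h'⁻¹ * (h' * d * h'⁻¹) = h' * (S.ι y * d) * h'⁻¹ := by group
            _ = h' * (d * S.ι y) * h'⁻¹ := by rw [hdy]
            _ = _ := by group
        have hpow := S.loc_cent hc hc1 hcomm
        rw [conj_pow, conj_eq_one_iff] at hpow
        refine hy1 (S.lp.eq_one_of_pow (S.B.inj ?_) (S.lp.pow_m hy))
        rw [map_pow, hpow, map_one]
    · exact hm h
  · -- the prime three
    have h3 : r0 = 3 := by
      rw [S.lp.hqe] at h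
      exact (Nat.prime_dvd_prime_iff_eq hr0 Nat.prime_three).1 (hr0.dvd_of_dvd_pow h)
    exact S.no_three (hd.trans h3) hs hs1 hts hds hinv

/-- An element commuting with `t` and with a split torus element lies in the torus. -/
theorem cent_t_y {y : P} (hy : y ∈ S.lp.K.Y) (hy1 : y ≠ 1) {x : G} (hx : x * S.ι y = S.ι y * x)
    (hxt : x * S.t = S.t * x) : ∃ z ∈ S.lp.K.Y, x = S.ι z ∨ x = S.t * S.ι z := by
  obtain ⟨k, rfl | rfl⟩ := S.B.cover x hxt
  · exact ⟨k, S.lp.cent_torus hy hy1 (S.B.inj (by rwa [map_mul, map_mul])), Or.inl rfl⟩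
  · refine ⟨k, S.lp.cent_torus hy hy1 (S.B.inj ?_), Or.inr rfl⟩
    rw [map_mul, map_mul]
    refine mul_left_cancel (a := S.t) ?_
    rw [← mul_assoc, hx, ← mul_assoc, ← mul_assoc]
    rw [show S.t * S.ι y = S.ι y * S.t from (S.tc y).symm]

theorem invol_T {z : P} (hz : z ∈ S.lp.K.Y) {x : G} (hx : x = S.ι z ∨ x = S.t * S.ι z) (hx2 : x * x = 1) :
    x = 1 ∨ x = S.t := by
  have hz2 : z * z = 1 := by
    refine S.B.inj ?_
    rw [map_mul, map_one]
    rcases hx with rfl | rfl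
    · exact hx2
    · rwa [show S.t * S.ι z * (S.t * S.ι z) = S.t * (S.ι z * S.t) * S.ι z by group, S.tc,
        ← mul_assoc, S.tt, one_mul] at hx2
  have hz1 : z = 1 := by
    obtain ⟨d, hd⟩ := S.lp.m_odd
    have h := S.lp.pow_m hz
    rwa [hd, pow_succ, pow_mul, pow_two, hz2, one_pow, one_mul] at h
  rw [hz1, map_one, mul_one] at hx
  exact hx

/-- The centraliser of a split torus element is the torus. -/
theorem cent_y {y : P} (hy : y ∈ S.lp.K.Y) (hy1 : y ≠ 1) {x : G} (hx : x * S.ι y = S.ι y * x) :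
    ∃ z ∈ S.lp.K.Y, x = S.ι z ∨ x = S.t * S.ι z := by
  haveI := S.lp.finiteP
  set C := centralizer ({S.ι y} : Set G) with hC
  have htC : S.t ∈ C := mem_centralizer_singleton_iff.2 (S.tc y).symm
  obtain ⟨K, hKC, hKodd, hK2, hKconj, hKmem⟩ := exists_odd_two S.amb S.B.ht htC (fun z hz hz2 hzt => by
    obtain ⟨z', hz', h⟩ := S.cent_t_y hy hy1 (mem_centralizer_singleton_iff.1 hz) hzt
    exact S.invol_T hz' h hz2)
  have hYC : S.Ym ≤ C := by
    rintro _ ⟨z, hz, rfl⟩
    refine mem_centralizer_singleton_iff.2 ?_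
    rw [← map_mul, ← map_mul, S.lp.K.Y_comm z hz y hy]
  have hYK : S.Ym ≤ K := by
    rintro _ ⟨z, hz, rfl⟩
    refine hKmem _ (hYC ⟨z, hz, rfl⟩) ?_
    exact Odd.of_dvd_nat S.lp.m_odd (orderOf_dvd_of_pow_eq_one (by
      rw [← map_pow, S.lp.pow_m hz, map_one]))
  have hKnorm : ∀ s : G, (∀ c ∈ C, s * c * s⁻¹ ∈ C) → ∀ k ∈ K, s * k * s⁻¹ ∈ K := by
    intro s hs k hk
    refine hKmem _ (hs k (hKC hk)) ?_
    rw [show s * k * s⁻¹ = (MulAut.conj s).toMonoidHom k by simp,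
      orderOf_injective (MulAut.conj s).toMonoidHom (MulAut.conj s).injective]
    exact hKodd.of_dvd_nat (orderOf_dvd_of_pow_eq_one (congrArg Subtype.val
      (pow_card_eq_one' (x := (⟨k, hk⟩ : ↥K)))))
  have htK : ∀ k ∈ K, S.t * k * S.t⁻¹ ∈ K := fun k hk => hKconj _ htC k hk
  have hwK : ∀ k ∈ K, S.w * k * S.w⁻¹ ∈ K := hKnorm _ fun c hc => by
    refine mem_centralizer_singleton_iff.2 ?_
    have hc' : c * (S.ι y)⁻¹ = (S.ι y)⁻¹ * c :=
      (Commute.inv_right (show Commute c (S.ι y) from mem_centralizer_singleton_iff.1 hc)).eq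
    have hy' : S.ι y = S.w * (S.ι y)⁻¹ * S.w⁻¹ := by
      rw [← S.w_y hy]
      calc S.ι y = (S.w * S.w) * S.ι y * (S.w * S.w)⁻¹ := by rw [S.ww]; group
        _ = _ := by group
    calc S.w * c * S.w⁻¹ * S.ι y = S.w * c * S.w⁻¹ * (S.w * (S.ι y)⁻¹ * S.w⁻¹) := by rw [← hy']
      _ = S.w * (c * (S.ι y)⁻¹) * S.w⁻¹ := by group
      _ = S.w * ((S.ι y)⁻¹ * c) * S.w⁻¹ := by rw [hc']
      _ = (S.w * (S.ι y)⁻¹ * S.w⁻¹) * (S.w * c * S.w⁻¹) := by group
      _ = _ := by rw [← hy']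
  -- only primes of the torus divide the odd part
  have hprimes : ∀ r0 : ℕ, r0.Prime → r0 ∣ Nat.card ↥K → r0 ∣ S.lp.m := by
    intro r0 hr0 hdvd
    by_contra hm
    haveI := Fact.mk hr0
    have hr2 : r0 ≠ 2 := fun e => by subst e; obtain ⟨d, hd⟩ := hKodd; omega
    set A := zpowers S.t ⊔ zpowers S.w with hAdef
    have hA : A ≤ normalizer (K : Set G) := by
      refine sup_le (zpowers_le.2 ?_) (zpowers_le.2 ?_)
      · refine mem_normalizer_iff.2 fun k => ⟨htK k, fun h => ?_⟩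
        have h' := htK _ h
        rwa [S.t_inv, show S.t * (S.t * k * S.t) * S.t = (S.t * S.t) * k * (S.t * S.t) by group, S.tt,
          one_mul, mul_one] at h'
      · refine mem_normalizer_iff.2 fun k => ⟨hwK k, fun h => ?_⟩
        have h' := hwK _ h
        rwa [S.w_inv, show S.w * (S.w * k * S.w) * S.w = (S.w * S.w) * k * (S.w * S.w) by group, S.ww,
          one_mul, mul_one] at h'
    have hA2 : IsPGroup 2 ↥A := by
      haveI : Fact (Nat.Prime 2) := ⟨Nat.prime_two⟩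
      refine (IsPGroup.of_card (n := 1) (by rw [Nat.card_zpowers, S.B.ht, pow_one])).to_sup_of_normal_right'
        (IsPGroup.of_card (n := 1) (by
          rw [Nat.card_zpowers, pow_one]; exact orderOf_eq_prime (by rw [pow_two, S.ww]) S.w_ne)) ?_
      exact zpowers_le.2 (centralizer_le_normalizer _ (mem_centralizer_iff.2 fun d hd => by
        obtain ⟨i, rfl⟩ := mem_zpowers_iff.1 hd
        exact ((show Commute S.t S.w from S.tw).zpow_right i).eq.symm))
    obtain ⟨j, hj⟩ := IsPGroup.iff_card.1 hA2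
    obtain ⟨R, hR, hRA⟩ := Grp.exists_invariant_sylow A K hA (by
      rw [hj]
      exact ((Nat.prime_two.coprime_iff_not_dvd).2 (by
        rw [← even_iff_two_dvd]; exact Nat.not_even_iff_odd.2 hKodd)).pow_left j)
      (Or.inl (by haveI : Fact (Nat.Prime 2) := ⟨Nat.prime_two⟩; haveI := hA2.isNilpotent; infer_instance)) r0
    obtain ⟨hRK, hRp, hRi⟩ := hR
    have hnR : ∀ s ∈ A, ∀ x ∈ R, s * x * s⁻¹ ∈ R := fun s hs x hx => (mem_normalizer_iff.1 (hRA hs) x).1 hx
    have htA : S.t ∈ A := mem_sup_left (mem_zpowers _)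
    have hwA : S.w ∈ A := mem_sup_right (mem_zpowers _)
    have hfixt : ∀ x ∈ R, x * S.t = S.t * x → x = 1 := by
      intro x hx hxt
      by_contra hx1
      obtain ⟨i, hi⟩ := hRp ⟨x, hx⟩
      have hi' : x ^ r0 ^ i = 1 := congrArg Subtype.val hi
      obtain ⟨z, hz, hxz⟩ := S.cent_t_y hy hy1 (mem_centralizer_singleton_iff.1 (hKC (hRK hx))) hxt
      have hxm : x ^ (2 * S.lp.m) = 1 := by
        have hzm : S.ι z ^ S.lp.m = 1 := by rw [← map_pow, S.lp.pow_m hz, map_one]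
        rcases hxz with e | e <;> rw [e]
        · rw [mul_comm, pow_mul, hzm, one_pow]
        · rw [(show Commute S.t (S.ι z) from (S.tc z).symm).mul_pow, pow_mul, pow_two, S.tt, one_pow, one_mul,
            mul_comm, pow_mul, hzm, one_pow]
      have hcop : (r0 ^ i).Coprime (2 * S.lp.m) :=
        (hr0.coprime_iff_not_dvd.2 fun h => (hr0.dvd_mul.1 h).elim
          (fun h2 => hr2 ((Nat.prime_dvd_prime_iff_eq hr0 Nat.prime_two).1 h2)) hm).pow_left i
      have h := pow_gcd_eq_one.2 (⟨hi', hxm⟩ : x ^ r0 ^ i = 1 ∧ x ^ (2 * S.lp.m) = 1)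
      rw [hcop.gcd_eq_one, pow_one] at h
      exact hx1 h
    have hinvt := inverts S.tt (hnR _ htA) hfixt
    have hfixs : ∀ s ∈ A, s * s = 1 → s ≠ 1 → S.t * s = s * S.t → ∀ x ∈ R, x * s = s * x → x = 1 := by
      intro s hs hs2 hs1 hts x hx hxs
      by_contra hx1
      obtain ⟨i, hi⟩ := hRp ⟨x, hx⟩
      have hi' : x ^ r0 ^ i = 1 := congrArg Subtype.val hi
      obtain ⟨i', -, hi''⟩ := (Nat.dvd_prime_pow hr0).1 (orderOf_dvd_of_pow_eq_one hi')
      have hi0 : i' ≠ 0 := fun e => hx1 (by rw [← orderOf_eq_one_iff, hi'', e, pow_zero])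
      set d := x ^ r0 ^ (i' - 1) with hd
      have hdR : d ∈ R := pow_mem hx _
      have hdo : orderOf d = r0 := by
        rw [hd, orderOf_pow' _ (pow_ne_zero _ hr0.ne_zero), hi'',
          Nat.gcd_eq_right (Nat.pow_dvd_pow r0 (Nat.sub_le _ _)), Nat.pow_div (Nat.sub_le _ _) hr0.pos,
          show i' - (i' - 1) = 1 by omega, pow_one]
      exact S.no_prime hy hy1 hr0 hm hdo hr2 hs2 hs1 hts ((Commute.pow_left hxs _).eq) (hinvt d hdR)
        (mem_centralizer_singleton_iff.1 (hKC (hRK hdR)))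
    have htw_ne : S.t * S.w ≠ 1 := fun e => by
      refine S.B.t_not S.lp.K.w ?_
      have h := eq_inv_of_mul_eq_one_left e
      rw [S.w_inv] at h
      exact h.symm
    have hinvw := inverts S.ww (hnR _ hwA) (hfixs S.w hwA S.ww S.w_ne S.tw)
    have hRbot : ∀ x ∈ R, x = 1 := by
      intro x hx
      refine hfixs (S.t * S.w) (mul_mem htA hwA) ?_ htw_ne ?_ x hx ?_
      · calc S.t * S.w * (S.t * S.w) = S.t * (S.w * S.t) * S.w := by group
          _ = S.t * S.t * (S.w * S.w) := by rw [← S.tw]; group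
          _ = 1 := by rw [S.tt, S.ww, one_mul]
      · rw [← mul_assoc, S.tt, one_mul, mul_assoc, ← S.tw, ← mul_assoc, S.tt, one_mul]
      · have h1 : S.t * S.w * x * (S.t * S.w)⁻¹ = x := by
          rw [show S.t * S.w * x * (S.t * S.w)⁻¹ = S.t * (S.w * x * S.w⁻¹) * S.t⁻¹ by group, hinvw x hx,
            hinvt _ (inv_mem hx), inv_inv]
        exact (mul_inv_eq_iff_eq_mul.1 h1).symm
    rw [(eq_bot_iff_forall _).2 hRbot, relIndex_bot_left] at hRi
    exact hRi hdvd
  have hKm : Nat.card ↥K ∣ S.lp.m := by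
    have hG : Nat.card ↥K ∣ S.lp.m * (2 * (S.lp.D.q ^ 3 * (S.lp.D.q ^ 3 + 1))) := by
      refine dvd_trans (card_subgroup_dvd_card K) (dvd_of_eq ?_)
      rw [S.card_G, show S.lp.D.q - 1 = 2 * S.lp.m by have := S.lp.q_eq_m; omega]
      ring
    refine Nat.Coprime.dvd_of_dvd_mul_right (Nat.coprime_of_dvd fun p hp h1 h2 => ?_) hG
    have hpm := hprimes p hp h1
    have hp2 : p ≠ 2 := fun e => by subst e; obtain ⟨d, hd⟩ := S.lp.m_odd; omega
    have hq1 : S.lp.D.q ≡ 1 [MOD p] := by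
      rw [S.lp.q_eq_m]
      simpa using (Nat.modEq_zero_iff_dvd.2 (hpm.mul_left 2)).add_right 1
    rcases hp.dvd_mul.1 h2 with h | h
    · exact hp2 ((Nat.prime_dvd_prime_iff_eq hp Nat.prime_two).1 h)
    rcases hp.dvd_mul.1 h with h | h
    · have := ((hq1.pow 3).symm.trans (Nat.modEq_zero_iff_dvd.2 h))
      rw [one_pow] at this
      exact hp.not_dvd_one (Nat.modEq_zero_iff_dvd.1 this)
    · have := ((hq1.pow 3).add_right 1).symm.trans (Nat.modEq_zero_iff_dvd.2 h)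
      rw [one_pow] at this
      exact hp2 ((Nat.prime_dvd_prime_iff_eq hp Nat.prime_two).1 (Nat.modEq_zero_iff_dvd.1 this))
  have hKY : S.Ym = K := eq_of_le_of_card_ge hYK (by
    rw [Ym, card_map_of_injective S.B.inj, S.lp.card_Y]
    exact Nat.le_of_dvd (by have := S.lp.m_pos; omega) hKm)
  have hTC : S.T = C := eq_of_le_of_card_ge (sup_le (zpowers_le.2 htC) hYC) (by
    rw [S.card_T, ← hK2, ← hKY, Ym, card_map_of_injective S.B.inj, S.lp.card_Y]
    have := S.lp.q_eq_m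
    omega)
  exact S.mem_T (by rw [hTC]; exact mem_centralizer_singleton_iff.2 hx)

/-- An element mapping one split torus element into the torus centralises `t`. -/
theorem norm_y {y : P} (hy : y ∈ S.lp.K.Y) (hy1 : y ≠ 1) {x : G} (hx : x * S.ι y * x⁻¹ ∈ S.Ym) :
    x * S.t = S.t * x := by
  obtain ⟨y', hy', e⟩ := hx
  have hy'1 : y' ≠ 1 := fun h => hy1 (S.B.inj (by
    rw [h, map_one, eq_comm, conj_eq_one_iff] at e
    rw [e, map_one]))
  obtain ⟨z, hz, h⟩ := S.cent_y hy' hy'1 (x := x * S.t * x⁻¹) (by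
    change S.ι y' = _ at e
    rw [e]
    calc x * S.t * x⁻¹ * (x * S.ι y * x⁻¹) = x * (S.t * S.ι y) * x⁻¹ := by group
      _ = x * (S.ι y * S.t) * x⁻¹ := by rw [S.tc]
      _ = _ := by group)
  rcases S.invol_T hz h (by
    calc x * S.t * x⁻¹ * (x * S.t * x⁻¹) = x * (S.t * S.t) * x⁻¹ := by group
      _ = 1 := by rw [S.tt]; group) with h1 | h1
  · exfalso
    rw [conj_eq_one_iff] at h1
    have := S.B.ht
    rw [show S.B.t = 1 from h1, orderOf_one] at this
    omega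
  · exact mul_inv_eq_iff_eq_mul.1 h1

end Data

end Cfsg.Agent.Invol.AbelTwo.ReeTrans
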